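import Groth.Agent.EGA2Cone.Expand
import Groth.Agent.TMul.RelAmpleOps
import Groth.Agent.TMul.Ample

/-!
# A contraction of the zero section forces ampleness
-/

set_option autoImplicit false
set_option backward.isDefEq.respectTransparency false
set_option linter.style.haveILetI false

universe u

open CategoryTheory CategoryTheory.Limits AlgebraicGeometry TopologicalSpace Opposite
open Groth.Agent.QC (res resO res_res res_self res_smul resO_resO resO_self)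

noncomputable section

namespace Groth.Agent.EGA2Cone

open Groth.Agent
open TMul (IsGen pw)
open Groth.Agent.SymAlg (strL jL evalL resL theta theta_res theta_smul theta_pw theta_injective)

variable {X : Scheme.{u}} {L : X.Modules} (hL : PicF.IsInvertible L) (hLq : Coh.IsQCoh L)
  {𝒮 : RelProj.QCGrAlg X} {j : L ⟶ 𝒮.toModule} (hj : RelProj.IsGrSymAlg L 𝒮 j)

include hL hLq hj in
lemma res_smul_pw {U U' : X.Opens} (h : U' ≤ U) {e : Γ(L, U)} {e' : Γ(L, U')} {w : Γ(X, U')}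
    (hw : res L h e = w • e') (a : Γ(X, U)) (n : ℕ) :
    res (CohB1.tensorPow L n) h (a • pw e n) = (w ^ n * resO X h a) • pw e' n := by
  refine theta_injective hL hLq hj n U' ?_
  rw [← theta_res, theta_smul, theta_pw, theta_smul, theta_pw, map_mul, Groth.Agent.SymAlg.resL_strL, map_pow,
    Groth.Agent.SymAlg.resL_jL, hw]
  have h1 : jL j U' (w • e') = strL 𝒮 U' w * jL j U' e' := Scheme.Modules.Hom.app_smul j w e'
  rw [h1, mul_pow, map_mul (strL 𝒮 U'), map_pow]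
  ring

lemma le_basicOpen_of_isGen_smul {U : X.Opens} {M : X.Modules} {g : Γ(M, U)} (hg : IsGen g) {a : Γ(X, U)}
    (h : IsGen (a • g)) : U ≤ X.basicOpen a := by
  obtain ⟨d, hd⟩ := (h U le_rfl).2 g
  simp only [res_self, smul_smul] at hd
  have h1 : d * a = 1 := (hg U le_rfl).1 (by simp only [res_self, one_smul]; exact hd)
  rw [Scheme.basicOpen_of_isUnit _ (IsUnit.of_mul_eq_one d (by rw [mul_comm]; exact h1))]

variable {aug : 𝒮.toQCAlg ⟶ RelSpec.QCAlg.unit X} (haug : RelCone.IsAugmentation 𝒮 aug)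
  {j0 : X ⟶ 𝒮.toQCAlg.spec} (hj0 : RelCone.IsVertex 𝒮 aug j0)
  {OV : 𝒮.toQCAlg.spec.Opens} {F : Γ(𝒮.toQCAlg.spec, OV)} {Z : X.Opens}

include hL hLq hj haug hj0 in
/-- the expansion coefficients glue -/
theorem exists_coeff_section (hzero : ∀ x ∈ Z, j0.base x ∈ OV) (n : ℕ) :
    ∃ t : Γ(CohB1.tensorPow L n, Z), ∀ (U : X.Opens) (_ : IsAffineOpen U) (hUZ : U ≤ Z) (e : Γ(L, U))
      (_ : IsGen e) (c : PowerSeries Γ(X, U)), Exp j F U e c →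
        res _ hUZ t = PowerSeries.coeff n c • pw e n := by
  let ι := {p : Σ U : X.affineOpens, Γ(L, U.1) // p.1.1 ≤ Z ∧ IsGen p.2}
  have hc : ∀ i : ι, ∃ c, Exp j F i.1.1.1 i.1.2 c := fun i =>
    exists_exp hLq hj haug hj0 i.1.1.2 i.2.2 fun x hx => hzero x (i.2.1 hx)
  choose c hc using hc
  have hcompat : ∀ (i i' : ι) (W : X.Opens) (h : W ≤ i.1.1.1) (h' : W ≤ i'.1.1.1),
      res (CohB1.tensorPow L n) h (PowerSeries.coeff n (c i) • pw i.1.2 n) =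
        res (CohB1.tensorPow L n) h' (PowerSeries.coeff n (c i') • pw i'.1.2 n) := by
    intro i i' W h h'
    refine Groth.Agent.QC.section_eq_of_locally fun y hy => ?_
    obtain ⟨V, hV, e'', hyV, hVW, he''⟩ := Groth.Agent.SymAlg.exists_triv hL hy
    refine ⟨V, hVW, hyV, ?_⟩
    obtain ⟨w, hw⟩ := (he'' V le_rfl).2 (res L (hVW.trans h) i.1.2)
    obtain ⟨w', hw'⟩ := (he'' V le_rfl).2 (res L (hVW.trans h') i'.1.2)
    simp only [res_self] at hw hw'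
    rw [res_res, res_res, res_smul_pw hL hLq hj _ hw.symm, res_smul_pw hL hLq hj _ hw'.symm, ← coeff_chgS, ← coeff_chgS,
      exp_unique hLq hj hV he'' (exp_chg _ hw.symm (hc i)) (exp_chg _ hw'.symm (hc i'))]
  obtain ⟨t, ht, -⟩ := TopCat.Sheaf.existsUnique_gluing' (Groth.Agent.QC.abSheaf (CohB1.tensorPow L n))
    (fun i : ι => i.1.1.1) Z (fun i => homOfLE i.2.1)
    (fun x hx => by
      obtain ⟨V, hV, e, hxV, hVZ, he⟩ := Groth.Agent.SymAlg.exists_triv hL hx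
      exact Opens.mem_iSup.2 ⟨⟨⟨⟨V, hV⟩, e⟩, hVZ, he⟩, hxV⟩)
    (fun i => PowerSeries.coeff n (c i) • pw i.1.2 n)
    (fun i i' => hcompat i i' _ inf_le_left inf_le_right)
  refine ⟨t, fun U hU hUZ e he c' hc' => ?_⟩
  rw [← exp_unique hLq hj hU he (hc ⟨⟨⟨U, hU⟩, e⟩, hUZ, he⟩) hc']
  exact ht ⟨⟨⟨U, hU⟩, e⟩, hUZ, he⟩

include hL hLq hj haug hj0 in
/-- **a function avoiding the zero section gives a section with small non-vanishing locus** -/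
theorem exists_section_of_function (hzero : ∀ x ∈ Z, j0.base x ∈ OV)
    (hvan : ∀ x ∈ Z, j0.base x ∉ 𝒮.toQCAlg.spec.basicOpen F) {O : X.Opens}
    (hO : ∀ w ∈ 𝒮.toQCAlg.spec.basicOpen F, 𝒮.toQCAlg.π.base w ∈ O) {x : X} {U : X.Opens}
    (hU : IsAffineOpen U) (hUZ : U ≤ Z) {e : Γ(L, U)} (he : IsGen e) (hx : x ∈ U)
    {v : 𝒮.toQCAlg.spec} (hvF : v ∈ 𝒮.toQCAlg.spec.basicOpen F)
    (hv : ∀ p : Polynomial Γ(X, U), v ∈ 𝒮.toQCAlg.spec.basicOpen (Φ j U e p) ↔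
      ∃ n, p.coeff n ∉ (hU.primeIdealOf ⟨x, hx⟩).asIdeal) :
    ∃ (n : ℕ) (t : Γ(CohB1.tensorPow L (n + 1), Z)),
      (∃ (W : X.Opens) (h : W ≤ Z), x ∈ W ∧ IsGen (res _ h t)) ∧
        ∀ (W : X.Opens) (h : W ≤ Z), IsGen (res _ h t) → W ≤ O := by
  obtain ⟨c, hc⟩ := exists_exp hLq hj haug hj0 hU he fun y hy => hzero y (hUZ hy)
  obtain ⟨n, hn⟩ := (exists_coeff_ne_iff hU hc hx hv).1 hvF
  obtain ⟨m, rfl⟩ : ∃ m, n = m + 1 := ⟨n - 1, by
    rcases n with _ | n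
    · exact absurd hn (coeff_zero_of_exp hj haug hj0 hU hc hx (hvan x (hUZ hx)))
    · omega⟩
  obtain ⟨t, ht⟩ := exists_coeff_section hL hLq hj haug hj0 (F := F) hzero (m + 1)
  refine ⟨m, t, ⟨X.basicOpen (PowerSeries.coeff (m + 1) c), (X.basicOpen_le _).trans hUZ, hn, ?_⟩,
    fun W hW hgen y hy => ?_⟩
  · rw [← res_res (CohB1.tensorPow L (m + 1)) (X.basicOpen_le _) hUZ t, ht U hU hUZ e he c hc, res_smul]
    exact TMul.isGen_smul ((TMul.isGen_pw he _).res _) (RingedSpace.isUnit_res_basicOpen _ _)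
  · obtain ⟨V, hV, e', hyV, hVW, he'⟩ := Groth.Agent.SymAlg.exists_triv hL hy
    obtain ⟨c', hc'⟩ := exists_exp (F := F) hLq hj haug hj0 hV he' fun z hz => hzero z (hW (hVW hz))
    have h1 : IsGen (PowerSeries.coeff (m + 1) c' • pw e' (m + 1)) := by
      rw [← ht V hV (hVW.trans hW) e' he' c' hc', ← res_res _ hVW hW]
      exact hgen.res hVW
    obtain ⟨v', hv'π, hv'⟩ := exists_line_point j hLq hj hV he' hyV
    rw [← hv'π]
    exact hO v' ((exists_coeff_ne_iff hV hc' hyV hv').2 ⟨m + 1, le_basicOpen_of_isGen_smul (TMul.isGen_pw he' _) h1 hyV⟩)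

variable {Y : Scheme.{u}}

include hL hLq hj haug hj0 in
/-- **a contraction of the zero section makes the module relatively ample** -/
theorem isRelAmple_of_contraction (p : X ⟶ Y) [QuasiCompact p] (V0 : 𝒮.toQCAlg.spec.Opens)
    (hV0 : (V0 : Set 𝒮.toQCAlg.spec) = (Set.range j0.base)ᶜ)
    (h : ∃ (C : Scheme.{u}) (g : C ⟶ Y) (ε : Y ⟶ C) (q : 𝒮.toQCAlg.spec ⟶ C),
      ε ≫ g = 𝟙 Y ∧ q ≫ g = 𝒮.toQCAlg.π ≫ p ∧ j0 ≫ q = p ≫ ε ∧
        IsOpenImmersion (V0.ι ≫ q) ∧ Set.range (V0.ι ≫ q).base ∩ Set.range ε.base = ∅) :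
    RelAmple.IsRelAmple p L := by
  obtain ⟨C, g, ε, q, hεg, hqg, hjq, hoi, hdis⟩ := h
  refine TMul.isRelAmple_of_exists hL fun y => ?_
  obtain ⟨Y', hY', hyY', -⟩ := exists_isAffineOpen_mem_and_subset (x := y) (U := (⊤ : Y.Opens)) trivial
  have hgε : ∀ z, g.base (ε.base z) = z := fun z => congrArg (fun φ : Y ⟶ Y => φ.base z) hεg
  obtain ⟨W₁, hW₁, hyW₁, hW₁Y⟩ := exists_isAffineOpen_mem_and_subset (x := ε.base y) (U := g ⁻¹ᵁ Y')
    (show g.base (ε.base y) ∈ Y' by rw [hgε]; exact hyY')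
  obtain ⟨a, ha, hya⟩ := hY'.exists_basicOpen_le (V := ε ⁻¹ᵁ W₁) ⟨y, hyW₁⟩ hyY'
  let Y₂ := Y.basicOpen a
  let W := C.basicOpen ((g.appLE Y' W₁ hW₁Y).hom a)
  have hWeq : W = W₁ ⊓ g ⁻¹ᵁ Y₂ := Scheme.basicOpen_appLE ..
  have hWaff : IsAffineOpen W := hW₁.basicOpen _
  let Z := p ⁻¹ᵁ Y₂
  let Ω := q ⁻¹ᵁ W
  haveI : CompactSpace (Z : Scheme.{u}) :=
    isCompact_iff_compactSpace.1 (p.isCompact_preimage (hY'.basicOpen a).isCompact)
  refine ⟨Y₂, hya, TMul.isAmple_of_isBasis (TMul.isInvertible_restrict _ hL) ?_⟩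
  rw [Opens.isBasis_iff_nbhd]
  intro O x hxO
  let x' : X := Z.ι.base x
  have hxZ : x' ∈ Z := x.2
  have hx'O : x' ∈ Z.ι ''ᵁ O := ⟨x, hxO, rfl⟩
  obtain ⟨U, hU, e, hxU, hUO, he⟩ := Groth.Agent.SymAlg.exists_triv hL hx'O
  have hUZ : U ≤ Z := hUO.trans (Z.ι_image_le O)
  obtain ⟨v, hvπ, hv⟩ := exists_line_point j hLq hj hU he hxU
  have hvU : v ∈ 𝒮.toQCAlg.π ⁻¹ᵁ U := by show 𝒮.toQCAlg.π.base v ∈ U; rw [hvπ]; exact hxU
  have hvV0 : v ∈ V0 := by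
    rw [← SetLike.mem_coe, hV0, Set.mem_compl_iff, not_mem_range_j0_iff j hLq hj hU he haug hj0 hvU, hv]
    exact ⟨1, by rw [Polynomial.coeff_X_one]; exact (Ideal.ne_top_iff_one _).1 (hU.primeIdealOf _).2.ne_top⟩
  have hzero : ∀ z ∈ Z, j0.base z ∈ Ω := fun z hz => by
    show q.base (j0.base z) ∈ W
    rw [← Scheme.Hom.comp_apply, hjq, Scheme.Hom.comp_apply, hWeq]
    exact ⟨ha hz, by show g.base (ε.base (p.base z)) ∈ Y₂; rw [hgε]; exact hz⟩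
  -- the line through `x'` meets `Ω`
  have hvΩ : v ∈ Ω := by
    obtain ⟨c, g', pp, k, hg, hg0, -, -⟩ :=
      exists_exp (F := (1 : Γ(𝒮.toQCAlg.spec, Ω))) hLq hj haug hj0 hU he fun z hz => hzero z (hUZ hz)
    exact hg ((hv g').2 ⟨0, by rw [hg0]; exact (Ideal.ne_top_iff_one _).1 (hU.primeIdealOf _).2.ne_top⟩)
  let T : (V0 : Scheme.{u}).Opens := V0.ι ⁻¹ᵁ (𝒮.toQCAlg.π ⁻¹ᵁ (Z.ι ''ᵁ O) ⊓ Ω)
  have hvT : (⟨v, hvV0⟩ : (V0 : Scheme.{u})) ∈ T :=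
    ⟨hUO hvU, hvΩ⟩
  obtain ⟨h, hhT, hvh⟩ := hWaff.exists_basicOpen_le (V := (V0.ι ≫ q) ''ᵁ T ⊓ W)
    ⟨q.base v, ⟨⟨⟨v, hvV0⟩, hvT, rfl⟩, hvΩ⟩⟩ hvΩ
  let F : Γ(𝒮.toQCAlg.spec, Ω) := (q.app W).hom h
  have hF : 𝒮.toQCAlg.spec.basicOpen F = q ⁻¹ᵁ C.basicOpen h := (Scheme.preimage_basicOpen q h).symm
  have hjF : ∀ z : X, j0.base z ∉ 𝒮.toQCAlg.spec.basicOpen F := fun z hz => by
    rw [hF] at hz
    obtain ⟨⟨w, -, hw⟩, -⟩ := hhT hz
    have : q.base (j0.base z) ∈ Set.range (V0.ι ≫ q).base ∩ Set.range ε.base :=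
      ⟨⟨w, hw⟩, p.base z, by rw [← Scheme.Hom.comp_apply, ← hjq, Scheme.Hom.comp_apply]⟩
    rw [hdis] at this
    exact this
  have hO : ∀ w ∈ 𝒮.toQCAlg.spec.basicOpen F, 𝒮.toQCAlg.π.base w ∈ Z.ι ''ᵁ O := fun w hw => by
    have hwV0 : w ∈ V0 := by
      rw [← SetLike.mem_coe, hV0]
      rintro ⟨z, rfl⟩
      exact hjF z hw
    rw [hF] at hw
    obtain ⟨⟨w', hw', hw''⟩, -⟩ := hhT hw
    have : w' = (⟨w, hwV0⟩ : (V0 : Scheme.{u})) := (V0.ι ≫ q).isOpenEmbedding.injective hw''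
    subst this
    exact hw'.1
  obtain ⟨n, t, ⟨W', hW'Z, hxW', hW'⟩, htO⟩ := exists_section_of_function hL hLq hj haug hj0 (F := F) hzero
    (fun z _ => hjF z) hO hU hUZ he hxU (hF.ge hvh) hv
  obtain ⟨i⟩ := TMul.nonempty_restrictPowIso Z.ι L (n + 1)
  let t' : Γ((CohB1.tensorPow L (n + 1)).restrict Z.ι, ⊤) :=
    res (CohB1.tensorPow L (n + 1)) (Z.ι_image_le ⊤) t
  let s := TMul.homOf t'
  have hgen : ∀ Q : (Z : Scheme.{u}).Opens,
      IsGen (TMul.val s Q) ↔ IsGen (res (CohB1.tensorPow L (n + 1)) (Z.ι_image_le Q) t) := fun Q => by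
    rw [TMul.isGen_restrict_iff, TMul.val_homOf, res_self]
    simp only [t', res_res]
  refine ⟨CohB1.genLocus _ (s ≫ i.inv), ⟨n, s ≫ i.inv, rfl⟩, ?_, ?_⟩
  · rw [TMul.genLocus_comp, TMul.mem_genLocus_iff]
    refine ⟨Z.ι ⁻¹ᵁ W', hxW', (hgen _).2 ?_⟩
    have hle : Z.ι ''ᵁ (Z.ι ⁻¹ᵁ W') ≤ W' := by
      rw [Scheme.Hom.image_preimage_eq_opensRange_inf]; exact inf_le_right
    rw [← res_res _ hle hW'Z]
    exact hW'.res hle
  · intro z hz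
    rw [TMul.genLocus_comp, TMul.mem_genLocus_iff] at hz
    obtain ⟨Q, hzQ, hQ⟩ := hz
    obtain ⟨z', hz', hzz⟩ := htO _ _ ((hgen Q).1 hQ) ⟨z, hzQ, rfl⟩
    rwa [Z.ι.isOpenEmbedding.injective hzz] at hz'

end Groth.Agent.EGA2Cone
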