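import Groth.Agent.SymAlg.InvProj
import Groth.Agent.SymAlg.AmpleOfR
import Groth.Agent.RelSpecUP.Basic
import Groth.Prelude.Def_RelSpec2

/-!
# The line bundle of an invertible module over an affine open
-/

set_option autoImplicit false
set_option backward.isDefEq.respectTransparency false
set_option linter.style.haveILetI false

universe u

open CategoryTheory CategoryTheory.Limits AlgebraicGeometry TopologicalSpace Opposite Polynomial
open Groth.Agent.QC (res resO res_res res_self res_smul resO_resO resO_self)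

noncomputable section

namespace Groth.Agent.EGA2Cone

open Groth.Agent
open TMul (IsGen pw)
open Groth.Agent.SymAlg (strL jL evalL resL)

variable {X : Scheme.{u}} {L : X.Modules} {𝒮 : RelProj.QCGrAlg X}

/-- A section of the algebra as a function on the spectrum. -/
def toV (𝒮 : RelProj.QCGrAlg X) (U : X.Opens) :
    𝒮.presheaf.obj (op U) →+* Γ(𝒮.toQCAlg.spec, 𝒮.toQCAlg.π ⁻¹ᵁ U) :=
  CommRingCat.Hom.hom (R := 𝒮.presheaf.obj (op U)) (S := Γ(𝒮.toQCAlg.spec, 𝒮.toQCAlg.π ⁻¹ᵁ U))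
    ((inv 𝒮.toQCAlg.gammaMap).app (op U))

lemma toV_bijective (U : X.Opens) : Function.Bijective (toV 𝒮 U) :=
  ConcreteCategory.bijective_of_isIso ((inv 𝒮.toQCAlg.gammaMap).app (op U))

lemma gammaMap_toV (U : X.Opens) (a : 𝒮.presheaf.obj (op U)) :
    (𝒮.toQCAlg.gammaMap.app (op U)).hom (toV 𝒮 U a) = a := by
  have h := congr($(NatTrans.congr_app (IsIso.inv_hom_id 𝒮.toQCAlg.gammaMap) (op U)) a)
  exact h

lemma toV_res {V U : X.Opens} (h : V ≤ U) (a : 𝒮.presheaf.obj (op U)) :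
    toV 𝒮 V (resL 𝒮 h a) = resO _ (𝒮.toQCAlg.π.preimage_mono h) (toV 𝒮 U a) :=
  congr($((inv 𝒮.toQCAlg.gammaMap).naturality (homOfLE h).op) a)

lemma toV_strL (U : X.Opens) (c : Γ(X, U)) : toV 𝒮 U (strL 𝒮 U c) = (𝒮.toQCAlg.π.app U).hom c := by
  have h : 𝒮.toQCAlg.str ≫ inv 𝒮.toQCAlg.gammaMap = 𝒮.toQCAlg.π.c := by
    rw [IsIso.comp_inv_eq]; exact 𝒮.toQCAlg.π_c_gammaMap.symm
  exact congr($(NatTrans.congr_app h (op U)) c)

variable (j : L ⟶ 𝒮.toModule)

/-- Polynomials as functions on the line bundle. -/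
def Φ (U : X.Opens) (e : Γ(L, U)) : Γ(X, U)[X] →+* Γ(𝒮.toQCAlg.spec, 𝒮.toQCAlg.π ⁻¹ᵁ U) :=
  (toV 𝒮 U).comp (evalL j U e)

lemma Φ_C (U : X.Opens) (e : Γ(L, U)) (c : Γ(X, U)) : Φ j U e (C c) = (𝒮.toQCAlg.π.app U).hom c := by
  rw [Φ, RingHom.comp_apply, ← toV_strL]
  simp

lemma Φ_X (U : X.Opens) (e : Γ(L, U)) : Φ j U e Polynomial.X = toV 𝒮 U (jL j U e) := by
  simp [Φ]

/-- The change of generator. -/
def chg {U U' : X.Opens} (h : U' ≤ U) (w : Γ(X, U')) : Γ(X, U)[X] →+* Γ(X, U')[X] :=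
  Polynomial.eval₂RingHom (Polynomial.C.comp (resO X h)) (C w * Polynomial.X)

/-- The change of generator on power series. -/
def chgS {U U' : X.Opens} (h : U' ≤ U) (w : Γ(X, U')) : PowerSeries Γ(X, U) →+* PowerSeries Γ(X, U') :=
  (PowerSeries.rescale w).comp (PowerSeries.map (resO X h))

lemma coe_chg {U U' : X.Opens} (h : U' ≤ U) (w : Γ(X, U')) (p : Γ(X, U)[X]) :
    ((chg h w p : Γ(X, U')[X]) : PowerSeries Γ(X, U')) = chgS h w (p : PowerSeries Γ(X, U)) := by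
  induction p using Polynomial.induction_on' with
  | add p q hp hq => simp only [map_add, Polynomial.coe_add, hp, hq]
  | monomial n c =>
    ext m
    simp only [chg, chgS, Polynomial.coe_eval₂RingHom, Polynomial.eval₂_monomial, RingHom.comp_apply,
      Polynomial.coeff_coe, PowerSeries.coeff_rescale, PowerSeries.coeff_map, Polynomial.coeff_monomial,
      mul_pow, ← Polynomial.C_pow, ← mul_assoc, ← Polynomial.C_mul, Polynomial.coeff_C_mul, Polynomial.coeff_X_pow]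
    by_cases hm : m = n
    · subst hm; simp [mul_comm]
    · simp [hm, Ne.symm hm]

lemma coeff_chgS {U U' : X.Opens} (h : U' ≤ U) (w : Γ(X, U')) (c : PowerSeries Γ(X, U)) (n : ℕ) :
    PowerSeries.coeff n (chgS h w c) = w ^ n * resO X h (PowerSeries.coeff n c) := by
  simp [chgS, PowerSeries.coeff_rescale, PowerSeries.coeff_map]

lemma res_Φ {U U' : X.Opens} (h : U' ≤ U) {e : Γ(L, U)} {e' : Γ(L, U')} {w : Γ(X, U')}
    (hw : res L h e = w • e') (p : Γ(X, U)[X]) :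
    resO _ (𝒮.toQCAlg.π.preimage_mono h) (Φ j U e p) = Φ j U' e' (chg h w p) := by
  refine RingHom.congr_fun (f := (resO _ (𝒮.toQCAlg.π.preimage_mono h)).comp (Φ j U e))
    (g := (Φ j U' e').comp (chg h w)) (Polynomial.ringHom_ext (fun c => ?_) ?_) p
  · simp only [RingHom.comp_apply, chg, Polynomial.coe_eval₂RingHom, Polynomial.eval₂_C, Φ_C]
    exact (congr($(𝒮.toQCAlg.π.c.naturality (homOfLE h).op) c)).symm
  · simp only [RingHom.comp_apply, chg, Polynomial.coe_eval₂RingHom, Polynomial.eval₂_X, map_mul, Φ_X, Φ_C]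
    rw [← toV_res h, Groth.Agent.SymAlg.resL_jL, hw, ← toV_strL, ← map_mul]
    exact congrArg _ (Scheme.Modules.Hom.app_smul j w e')

variable (hLq : Coh.IsQCoh L) (hj : RelProj.IsGrSymAlg L 𝒮 j)
  {U : X.Opens} (hU : IsAffineOpen U) {e : Γ(L, U)} (he : IsGen e)

include hLq hj hU he in
lemma Φ_bijective : Function.Bijective (Φ j U e) :=
  (toV_bijective U).comp (Groth.Agent.SymAlg.evalL_bijective hLq hj hU he)

section vertex

variable {aug : 𝒮.toQCAlg ⟶ RelSpec.QCAlg.unit X} (haug : RelCone.IsAugmentation 𝒮 aug)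
  {j0 : X ⟶ 𝒮.toQCAlg.spec} (hj0 : RelCone.IsVertex 𝒮 aug j0)

include hj0 in
lemma le_j0 (U : X.Opens) : U ≤ j0 ⁻¹ᵁ (𝒮.toQCAlg.π ⁻¹ᵁ U) := by
  rw [← Scheme.Hom.comp_preimage, hj0.comp_π]
  exact le_rfl

include hj0 hU in
lemma j0_toV (a : 𝒮.presheaf.obj (op U)) :
    (j0.appLE (𝒮.toQCAlg.π ⁻¹ᵁ U) U (le_j0 hj0 U)).hom (toV 𝒮 U a) = (aug.hom.app (op U)).hom a := by
  let A := 𝒮.toQCAlg
  have he : (⊤ : (Spec Γ(X, U)).Opens) ≤ hU.fromSpec ⁻¹ᵁ U := (hU.fromSpec_preimage_self).ge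
  have e1 : j0.appLE (A.π ⁻¹ᵁ U) U (le_j0 hj0 U) ≫ hU.fromSpec.appLE U ⊤ he =
      A.gammaAff U hU ≫ aug.hom.app (op U) ≫ (Scheme.ΓSpecIso Γ(X, U)).inv := by
    rw [Scheme.Hom.appLE_comp_appLE]
    simp only [hj0.chart U hU]
    rw [← Scheme.Hom.appLE_comp_appLE (Spec.map (aug.hom.app (op U))) (A.ι U hU) _ ⊤ _
        (A.top_le_preimage U hU) le_top, RelSpec.QCAlg.gammaAff, Category.assoc]
    congr 1
    rw [← Category.assoc, Iso.eq_comp_inv]
    refine Eq.trans ?_ (Scheme.ΓSpecIso_naturality (aug.hom.app (op U)))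
    exact congrArg (· ≫ _) (Scheme.Hom.appLE_eq_app _)
  have h2 : hU.fromSpec.appLE U ⊤ he = (Scheme.ΓSpecIso Γ(X, U)).inv := by
    rw [Scheme.Hom.appLE, IsAffineOpen.fromSpec_app_self, Category.assoc, ← Functor.map_comp]
    exact (congrArg _ (CategoryTheory.Functor.map_id _ _)).trans (Category.comp_id _)
  have h3 : j0.appLE (A.π ⁻¹ᵁ U) U (le_j0 hj0 U) = A.gammaAff U hU ≫ aug.hom.app (op U) := by
    rw [h2, ← Category.assoc] at e1
    exact (cancel_mono _).1 e1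
  rw [h3, ← A.gammaMap_app U hU]
  exact congrArg (aug.hom.app (op U)).hom (gammaMap_toV U a)

include hj hU haug hj0 in
lemma j0_Φ (p : Γ(X, U)[X]) :
    (j0.appLE (𝒮.toQCAlg.π ⁻¹ᵁ U) U (le_j0 hj0 U)).hom (Φ j U e p) = p.coeff 0 := by
  rw [Φ, RingHom.comp_apply, j0_toV hU hj0]
  induction p using Polynomial.induction_on' with
  | add p q hp hq => rw [map_add, map_add, hp, hq, Polynomial.coeff_add]
  | monomial n c =>
    have hc : (aug.hom.app (op U)).hom (strL 𝒮 U c) = c := congr($(NatTrans.congr_app aug.comm (op U)) c)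
    have hT : (aug.hom.app (op U)).hom (jL j U e) = 0 := haug U hU 0 _ (hj.2 U hU e)
    rw [show evalL j U e (Polynomial.monomial n c) = strL 𝒮 U c * jL j U e ^ n from
      Polynomial.eval₂_monomial _ _, map_mul, map_pow, hc, hT, Polynomial.coeff_monomial]
    rcases n with _ | n
    · simp
    · simp

include hj hU haug hj0 in
lemma mem_basicOpen_j0_iff (p : Γ(X, U)[X]) {x : X} (hx : x ∈ U) :
    j0.base x ∈ 𝒮.toQCAlg.spec.basicOpen (Φ j U e p) ↔ x ∈ X.basicOpen (p.coeff 0) := by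
  rw [← j0_Φ j hj hU haug hj0 p, Scheme.basicOpen_appLE]
  exact ⟨fun h => ⟨hx, h⟩, fun h => h.2⟩

include hLq hj hU he haug hj0 in
/-- Off the zero section the coordinate is invertible. -/
lemma not_mem_range_j0_iff {v : 𝒮.toQCAlg.spec} (hv : v ∈ 𝒮.toQCAlg.π ⁻¹ᵁ U) :
    v ∉ Set.range j0.base ↔ v ∈ 𝒮.toQCAlg.spec.basicOpen (Φ j U e Polynomial.X) := by
  let A := 𝒮.toQCAlg
  let x := A.π.base v
  have hW : IsAffineOpen (A.π ⁻¹ᵁ U) := hU.preimage A.π
  constructor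
  · intro h
    by_contra hT
    refine h ⟨x, ?_⟩
    have hjx : j0.base x ∈ A.π ⁻¹ᵁ U := le_j0 hj0 U hv
    have hP : hW.primeIdealOf ⟨_, hjx⟩ = hW.primeIdealOf ⟨v, hv⟩ := by
      rw [← IsAffineOpen.comap_primeIdealOf_appLE (f := j0) (A.π ⁻¹ᵁ U) hW U hU (le_j0 hj0 U) hv,
        ← IsAffineOpen.comap_primeIdealOf_appLE (f := A.π) U hU (A.π ⁻¹ᵁ U) hW le_rfl hv]
      refine PrimeSpectrum.ext (Ideal.ext fun a => ?_)
      obtain ⟨p, rfl⟩ := (Φ_bijective j hLq hj hU he).2 a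
      rw [PrimeSpectrum.comap_asIdeal, Ideal.mem_comap, PrimeSpectrum.comap_asIdeal, Ideal.mem_comap,
        j0_Φ j hj hU haug hj0 p, Scheme.Hom.appLE_eq_app, ← Φ_C j U e]
      have hX : Φ j U e Polynomial.X ∈ (hW.primeIdealOf ⟨v, hv⟩).asIdeal := by
        by_contra hX
        refine hT ?_
        have := hW.fromSpec_primeIdealOf ⟨v, hv⟩
        rw [show v = hW.fromSpec (hW.primeIdealOf ⟨v, hv⟩) from this.symm, ← SetLike.mem_coe]
        change hW.primeIdealOf ⟨v, hv⟩ ∈ hW.fromSpec ⁻¹ᵁ A.spec.basicOpen _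
        rw [hW.fromSpec_preimage_basicOpen]
        exact hX
      have hd : Φ j U e p = Φ j U e (C (p.coeff 0)) + Φ j U e Polynomial.X * Φ j U e p.divX := by
        rw [← map_mul, ← map_add, add_comm, Polynomial.X_mul_divX_add]
      rw [hd]
      exact (Ideal.add_mem_iff_left _ (Ideal.mul_mem_right _ _ hX)).symm
    exact (hW.fromSpec_primeIdealOf ⟨_, hjx⟩).symm.trans
      ((congrArg (fun q => hW.fromSpec q) hP).trans (hW.fromSpec_primeIdealOf ⟨v, hv⟩))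
  · rintro hT ⟨x', rfl⟩
    have hx' : x' ∈ U := by
      have : A.π.base (j0.base x') ∈ U := hv
      rwa [← Scheme.Hom.comp_apply, hj0.comp_π] at this
    rw [mem_basicOpen_j0_iff j hj hU haug hj0 Polynomial.X hx', Polynomial.coeff_X_zero, Scheme.basicOpen_zero] at hT
    exact hT

end vertex

section generic

variable {x : X} (hx : x ∈ U)

include hLq hj hU he hx in
/-- The generic point of the line over a point. -/
theorem exists_line_point : ∃ v : 𝒮.toQCAlg.spec, 𝒮.toQCAlg.π.base v = x ∧ ∀ p : Γ(X, U)[X],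
    v ∈ 𝒮.toQCAlg.spec.basicOpen (Φ j U e p) ↔ ∃ n, p.coeff n ∉ (hU.primeIdealOf ⟨x, hx⟩).asIdeal := by
  let A := 𝒮.toQCAlg
  have hW : IsAffineOpen (A.π ⁻¹ᵁ U) := hU.preimage A.π
  let P := (hU.primeIdealOf ⟨x, hx⟩).asIdeal
  let eΦ := RingEquiv.ofBijective (Φ j U e) (Φ_bijective j hLq hj hU he)
  let ψ : Γ(A.spec, A.π ⁻¹ᵁ U) →+* (Γ(X, U) ⧸ P)[X] := (Polynomial.mapRingHom (Ideal.Quotient.mk P)).comp eΦ.symm.toRingHom
  let Q : PrimeSpectrum Γ(A.spec, A.π ⁻¹ᵁ U) := ⟨RingHom.ker ψ, RingHom.ker_isPrime ψ⟩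
  have hQ : ∀ p, Φ j U e p ∈ Q.asIdeal ↔ ∀ n, p.coeff n ∈ P := fun p => by
    change ψ (Φ j U e p) = 0 ↔ _
    rw [show ψ (Φ j U e p) = Polynomial.map (Ideal.Quotient.mk P) p from
      congrArg (Polynomial.map _) (eΦ.symm_apply_apply p), Polynomial.ext_iff]
    simp only [Polynomial.coeff_map, Polynomial.coeff_zero, Ideal.Quotient.eq_zero_iff_mem]
  have hmem : hW.fromSpec Q ∈ A.π ⁻¹ᵁ U := by
    have h : hW.fromSpec Q ∈ hW.fromSpec.opensRange := ⟨Q, rfl⟩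
    rwa [hW.opensRange_fromSpec] at h
  have hpr : hW.primeIdealOf ⟨_, hmem⟩ = Q :=
    hW.fromSpec.isOpenEmbedding.injective (hW.fromSpec_primeIdealOf ⟨_, hmem⟩)
  refine ⟨hW.fromSpec Q, ?_, fun p => ?_⟩
  · have h := IsAffineOpen.comap_primeIdealOf_appLE (f := A.π) U hU (A.π ⁻¹ᵁ U) hW le_rfl hmem
    have h' : hU.primeIdealOf ⟨A.π (hW.fromSpec Q), hmem⟩ = hU.primeIdealOf ⟨x, hx⟩ := by
      rw [← h, hpr]
      refine PrimeSpectrum.ext (Ideal.ext fun c => ?_)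
      rw [PrimeSpectrum.comap_asIdeal, Ideal.mem_comap, Scheme.Hom.appLE_eq_app, ← Φ_C j U e, hQ]
      refine ⟨fun h => by simpa using h 0, fun h n => ?_⟩
      rw [Polynomial.coeff_C]
      split_ifs
      · exact h
      · exact P.zero_mem
    have := congrArg (fun q => hU.fromSpec q) h'
    simp only [hU.fromSpec_primeIdealOf] at this
    exact this
  · change Q ∈ hW.fromSpec ⁻¹ᵁ A.spec.basicOpen _ ↔ _
    rw [hW.fromSpec_preimage_basicOpen]
    change Φ j U e p ∉ Q.asIdeal ↔ _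
    rw [hQ, not_forall]

end generic

end Groth.Agent.EGA2Cone
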