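import Groth.Agent.EGA2Cone.Backward
import Mathlib.AlgebraicGeometry.Morphisms.IsIso

/-!
# The contraction of the zero section of a line bundle
-/

set_option autoImplicit false
set_option backward.isDefEq.respectTransparency false
set_option linter.style.haveILetI false

universe u

open CategoryTheory CategoryTheory.Limits AlgebraicGeometry TopologicalSpace Opposite
open Groth.Agent.QC (res resO res_res res_self res_smul resO_resO resO_self)

noncomputable section

namespace Groth.Agent.EGA2Cone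

open Groth.Agent

variable {X Y V : Scheme.{u}} (p : X ⟶ Y) (h : V ⟶ Y) (j0 : X ⟶ V) (hj : j0 ≫ h = p)

include hj in
lemma le_contr (U : Y.Opens) : p ⁻¹ᵁ U ≤ j0 ⁻¹ᵁ (h ⁻¹ᵁ U) := by rw [← hj, Scheme.Hom.comp_preimage]

/-- restriction to the section -/
def rj (U : Y.Opens) : Γ(V, h ⁻¹ᵁ U) →+* Γ(X, p ⁻¹ᵁ U) :=
  (j0.appLE (h ⁻¹ᵁ U) (p ⁻¹ᵁ U) (le_contr p h j0 hj U)).hom

lemma rj_res {U' U : Y.Opens} (hle : U' ≤ U) (a : Γ(V, h ⁻¹ᵁ U)) :
    rj p h j0 hj U' (resO V (h.preimage_mono hle) a) = resO X (p.preimage_mono hle) (rj p h j0 hj U a) := by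
  change (V.presheaf.map (homOfLE (h.preimage_mono hle)).op ≫ j0.appLE _ _ _).hom a =
    (j0.appLE _ _ _ ≫ X.presheaf.map (homOfLE (p.preimage_mono hle)).op).hom a
  rw [Scheme.Hom.map_appLE, Scheme.Hom.appLE_map]

lemma rj_app (U : Y.Opens) (c : Γ(Y, U)) : rj p h j0 hj U ((h.app U).hom c) = (p.app U).hom c := by
  subst hj
  change (h.app U ≫ j0.appLE _ _ _).hom c = _
  simp [Scheme.Hom.appLE, Scheme.Hom.comp_app]

/-- the functions contracting the section -/
def contrSub (U : Y.Opens) : Subring (Γ(V, h ⁻¹ᵁ U) × Γ(Y, U)) :=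
  RingHom.eqLocus ((rj p h j0 hj U).comp (RingHom.fst _ _)) ((p.app U).hom.comp (RingHom.snd _ _))

lemma mem_contrSub_iff {U : Y.Opens} {x : Γ(V, h ⁻¹ᵁ U) × Γ(Y, U)} :
    x ∈ contrSub p h j0 hj U ↔ rj p h j0 hj U x.1 = (p.app U).hom x.2 := Iff.rfl

lemma app_resO {U' U : Y.Opens} (hle : U' ≤ U) (c : Γ(Y, U)) :
    (p.app U').hom (resO Y hle c) = resO X (p.preimage_mono hle) ((p.app U).hom c) :=
  congr($(p.c.naturality (homOfLE hle).op) c)

/-- restriction -/
def contrRes {U' U : Y.Opens} (hle : U' ≤ U) : contrSub p h j0 hj U →+* contrSub p h j0 hj U' :=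
  (((resO V (h.preimage_mono hle)).prodMap (resO Y hle)).comp (contrSub p h j0 hj U).subtype).codRestrict _
    fun x => by
      rw [mem_contrSub_iff]
      change rj p h j0 hj U' (resO V _ x.1.1) = (p.app U').hom (resO Y hle x.1.2)
      rw [rj_res p h j0 hj hle, app_resO]
      exact congrArg _ ((mem_contrSub_iff p h j0 hj).1 x.2)

lemma contrRes_val {U' U : Y.Opens} (hle : U' ≤ U) (x : contrSub p h j0 hj U) :
    (contrRes p h j0 hj hle x).1 = (resO V (h.preimage_mono hle) x.1.1, resO Y hle x.1.2) := rfl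

/-- the presheaf of contracting functions -/
def contrPre : TopCat.Presheaf CommRingCat.{u} Y.carrier where
  obj U := CommRingCat.of (contrSub p h j0 hj U.unop)
  map {U U'} i := CommRingCat.ofHom (contrRes p h j0 hj (leOfHom i.unop))
  map_id U := by
    refine CommRingCat.hom_ext (RingHom.ext fun x => Subtype.ext ?_)
    exact Prod.ext (resO_self _ _) (resO_self _ _)
  map_comp {U U' U''} i i' := by
    refine CommRingCat.hom_ext (RingHom.ext fun x => Subtype.ext ?_)
    exact Prod.ext (resO_resO _ _ _).symm (resO_resO _ _ _).symm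

/-- the structure map -/
def contrStr : Y.presheaf ⟶ contrPre p h j0 hj where
  app U := CommRingCat.ofHom (((h.app U.unop).hom.prod (RingHom.id _)).codRestrict _ fun c => rj_app p h j0 hj U.unop c)
  naturality {U U'} i := by
    refine CommRingCat.hom_ext (RingHom.ext fun c => Subtype.ext ?_)
    exact Prod.ext (app_resO h (leOfHom i.unop) c) rfl

lemma contrPre_isSheaf : (contrPre p h j0 hj).IsSheaf := by
  rw [TopCat.Presheaf.isSheaf_iff_isSheafUniqueGluing]
  intro ι U sf hsf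
  let sv : ∀ i, Γ(V, h ⁻¹ᵁ U i) := fun i => (sf i).1.1
  let sy : ∀ i, Γ(Y, U i) := fun i => (sf i).1.2
  obtain ⟨a, ha, ha'⟩ := TopCat.Sheaf.existsUnique_gluing' V.sheaf (fun i => h ⁻¹ᵁ U i) (h ⁻¹ᵁ iSup U)
    (fun i => homOfLE (h.preimage_mono (le_iSup U i))) (by rw [Scheme.Hom.preimage_iSup]) sv
    (fun i k => congrArg (fun z => z.1.1) (hsf i k))
  obtain ⟨c, hc, hc'⟩ := TopCat.Sheaf.existsUnique_gluing' Y.sheaf U (iSup U)
    (fun i => homOfLE (le_iSup U i)) le_rfl sy (fun i k => congrArg (fun z => z.1.2) (hsf i k))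
  have hmem : (a, c) ∈ contrSub p h j0 hj (iSup U) := by
    rw [mem_contrSub_iff]
    refine TopCat.Sheaf.eq_of_locally_eq' X.sheaf (fun i => p ⁻¹ᵁ U i) (p ⁻¹ᵁ iSup U)
      (fun i => homOfLE (p.preimage_mono (le_iSup U i))) (by rw [Scheme.Hom.preimage_iSup]) _ _ fun i => ?_
    change resO X _ _ = resO X _ _
    rw [← rj_res p h j0 hj (le_iSup U i), ← app_resO p (le_iSup U i)]
    refine (congrArg _ (ha i)).trans ((sf i).2.trans ?_)
    exact (congrArg _ (hc i)).symm
  refine ⟨⟨(a, c), hmem⟩, fun i => Subtype.ext (Prod.ext (ha i) (hc i)), fun z hz => Subtype.ext (Prod.ext ?_ ?_)⟩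
  · exact ha' z.1.1 fun i => congrArg (fun w => w.1.1) (hz i)
  · exact hc' z.1.2 fun i => congrArg (fun w => w.1.2) (hz i)

lemma exists_pow_mul_eq {T : Scheme.{u}} {W : T.Opens} (hc : IsCompact (W : Set T)) (hq : IsQuasiSeparated (W : Set T))
    {f : Γ(T, W)} {a b : Γ(T, W)} (hab : resO T (T.basicOpen_le f) a = resO T (T.basicOpen_le f) b) :
    ∃ n : ℕ, f ^ n * a = f ^ n * b := by
  haveI := isLocalization_basicOpen_of_qcqs hc hq f
  obtain ⟨⟨_, n, rfl⟩, hn⟩ := (IsLocalization.eq_iff_exists (Submonoid.powers f) Γ(T, T.basicOpen f)).1 hab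
  exact ⟨n, hn⟩

lemma exists_pow_mul_res {T : Scheme.{u}} {W : T.Opens} (hc : IsCompact (W : Set T)) (hq : IsQuasiSeparated (W : Set T))
    (f : Γ(T, W)) (z : Γ(T, T.basicOpen f)) :
    ∃ (n : ℕ) (a : Γ(T, W)), z * resO T (T.basicOpen_le f) f ^ n = resO T (T.basicOpen_le f) a := by
  haveI := isLocalization_basicOpen_of_qcqs hc hq f
  exact IsLocalization.Away.surj f z

variable [QuasiCompact p] [QuasiSeparated p] [QuasiCompact h] [QuasiSeparated h]

lemma contrPre_isQC : RelSpec.IsQC (contrPre p h j0 hj) (contrStr p h j0 hj) := by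
  intro U hU r
  have hVc := h.isCompact_preimage hU.isCompact
  have hVq := h.isQuasiSeparated_preimage hU.isQuasiSeparated
  have hXc := p.isCompact_preimage hU.isCompact
  have hXq := p.isQuasiSeparated_preimage hU.isQuasiSeparated
  let R₀ := contrSub p h j0 hj U
  let R₁ := contrSub p h j0 hj (Y.basicOpen r)
  let ψ : R₀ →+* R₁ := contrRes p h j0 hj (Y.basicOpen_le r)
  let s : R₀ := ⟨((h.app U).hom r, r), rj_app p h j0 hj U r⟩
  letI : Algebra R₀ R₁ := ψ.toAlgebra
  show IsLocalization.Away s R₁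
  have eh : h ⁻¹ᵁ Y.basicOpen r = V.basicOpen ((h.app U).hom r) := Scheme.preimage_basicOpen h r
  have ep : p ⁻¹ᵁ Y.basicOpen r = X.basicOpen ((p.app U).hom r) := Scheme.preimage_basicOpen p r
  constructor; constructor
  · rintro ⟨_, n, rfl⟩
    simp only [map_pow]
    refine IsUnit.pow _ ?_
    have hu : IsUnit (resO Y (Y.basicOpen_le r) r) := RingedSpace.isUnit_res_basicOpen _ r
    obtain ⟨w, hw⟩ : ∃ w, resO Y (Y.basicOpen_le r) r * w = 1 := hu.exists_right_inv
    refine IsUnit.of_mul_eq_one (⟨((h.app _).hom w, w), rj_app p h j0 hj _ w⟩ : R₁) (Subtype.ext (Prod.ext ?_ ?_))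
    · change resO V _ ((h.app U).hom r) * (h.app _).hom w = 1
      rw [← app_resO h (Y.basicOpen_le r), ← map_mul, hw, map_one]
    · exact hw
  · intro z
    -- numerator
    obtain ⟨n, a, ha⟩ := exists_pow_mul_res hVc hVq ((h.app U).hom r)
      (resO V eh.ge z.1.1)
    obtain ⟨m, c, hc⟩ := exists_pow_mul_res hU.isCompact hU.isQuasiSeparated r z.1.2
    have ha' : z.1.1 * resO V (h.preimage_mono (Y.basicOpen_le r)) ((h.app U).hom r) ^ n =
        resO V (h.preimage_mono (Y.basicOpen_le r)) a := by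
      have := congrArg (resO V eh.le) ha
      simp only [map_mul, map_pow, resO_resO, resO_self] at this
      exact this
    have hz : rj p h j0 hj (Y.basicOpen r) z.1.1 = (p.app _).hom z.1.2 := z.2
    obtain ⟨N, hN⟩ := exists_pow_mul_eq hXc hXq (f := (p.app U).hom r)
      (a := rj p h j0 hj U a * (p.app U).hom r ^ m) (b := (p.app U).hom (c * r ^ n)) (by
        have hmain : resO X (p.preimage_mono (Y.basicOpen_le r)) (rj p h j0 hj U a * (p.app U).hom r ^ m) =
            resO X (p.preimage_mono (Y.basicOpen_le r)) ((p.app U).hom (c * r ^ n)) := by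
          rw [map_mul, map_pow, ← rj_res p h j0 hj (Y.basicOpen_le r), ← app_resO p (Y.basicOpen_le r),
            ← app_resO p (Y.basicOpen_le r), ← ha', map_mul (rj p h j0 hj _), map_pow (rj p h j0 hj _),
            ← app_resO h (Y.basicOpen_le r), rj_app, hz, map_mul (resO Y _), map_pow (resO Y _), ← hc]
          simp only [map_mul, map_pow]
          ring
        have := congrArg (resO X ep.ge) hmain
        simp only [resO_resO] at this
        exact this)
    refine ⟨⟨⟨(((h.app U).hom r) ^ (N + m) * a, r ^ (N + n) * c), ?_⟩, ⟨s ^ (N + n + m), _, rfl⟩⟩, ?_⟩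
    · rw [mem_contrSub_iff]
      simp only [map_mul, map_pow, rj_app] at hN ⊢
      linear_combination hN
    · refine Subtype.ext (Prod.ext ?_ ?_)
      · change z.1.1 * resO V _ (((h.app U).hom r) ^ (N + n + m)) = resO V _ (((h.app U).hom r) ^ (N + m) * a)
        rw [map_pow, map_mul, map_pow, ← ha']
        ring
      · change z.1.2 * resO Y _ (r ^ (N + n + m)) = resO Y _ (r ^ (N + n) * c)
        rw [map_pow, map_mul, map_pow, ← hc]
        ring
  · intro x y hxy
    obtain ⟨n, hn⟩ := exists_pow_mul_eq hVc hVq (f := (h.app U).hom r) (a := x.1.1) (b := y.1.1) (by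
      have := congrArg (fun z : R₁ => resO V eh.ge z.1.1) hxy
      change resO V eh.ge (resO V _ x.1.1) = resO V eh.ge (resO V _ y.1.1) at this
      rwa [resO_resO, resO_resO] at this)
    obtain ⟨m, hm⟩ := exists_pow_mul_eq hU.isCompact hU.isQuasiSeparated (f := r) (a := x.1.2) (b := y.1.2)
      (congrArg (fun z : R₁ => z.1.2) hxy)
    refine ⟨⟨s ^ (n + m), _, rfl⟩, Subtype.ext (Prod.ext ?_ ?_)⟩
    · change (h.app U).hom r ^ (n + m) * x.1.1 = (h.app U).hom r ^ (n + m) * y.1.1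
      rw [pow_add]
      linear_combination (h.app U).hom r ^ m * hn
    · change r ^ (n + m) * x.1.2 = r ^ (n + m) * y.1.2
      rw [pow_add]
      linear_combination r ^ n * hm

/-- the algebra of contracting functions -/
def contrAlg : RelSpec.QCAlg Y where
  presheaf := contrPre p h j0 hj
  isSheaf := contrPre_isSheaf p h j0 hj
  str := contrStr p h j0 hj
  isQC := contrPre_isQC p h j0 hj

/-- a contracting function on the contracted scheme -/
def toC (U : Y.Opens) :
    contrSub p h j0 hj U →+* Γ((contrAlg p h j0 hj).spec, (contrAlg p h j0 hj).π ⁻¹ᵁ U) :=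
  CommRingCat.Hom.hom (R := (contrAlg p h j0 hj).presheaf.obj (op U))
    (S := Γ((contrAlg p h j0 hj).spec, (contrAlg p h j0 hj).π ⁻¹ᵁ U))
    ((inv (contrAlg p h j0 hj).gammaMap).app (op U))

lemma toC_bijective (U : Y.Opens) : Function.Bijective (toC p h j0 hj U) :=
  ConcreteCategory.bijective_of_isIso ((inv (contrAlg p h j0 hj).gammaMap).app (op U))

/-- **the contraction** -/
theorem exists_contraction :
    ∃ (q : V ⟶ (contrAlg p h j0 hj).spec) (ε : Y ⟶ (contrAlg p h j0 hj).spec)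
      (hq : q ≫ (contrAlg p h j0 hj).π = h) (hε : ε ≫ (contrAlg p h j0 hj).π = 𝟙 Y),
      j0 ≫ q = p ≫ ε ∧
      (∀ (U : Y.Opens) (b : contrSub p h j0 hj U),
        (q.appLE ((contrAlg p h j0 hj).π ⁻¹ᵁ U) (h ⁻¹ᵁ U)
          (by rw [← Scheme.Hom.comp_preimage, hq])).hom (toC p h j0 hj U b) = b.1.1) ∧
      ∀ (U : Y.Opens) (b : contrSub p h j0 hj U),
        (ε.appLE ((contrAlg p h j0 hj).π ⁻¹ᵁ U) U
          (by rw [← Scheme.Hom.comp_preimage, hε]; exact le_rfl)).hom (toC p h j0 hj U b) = b.1.2 := by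
  let 𝒞 := contrAlg p h j0 hj
  let ω₁ : 𝒞.presheaf ⟶ AffAlg.alg h :=
    { app := fun U => CommRingCat.ofHom ((RingHom.fst _ _).comp (contrSub p h j0 hj U.unop).subtype)
      naturality := fun U U' i => rfl }
  let ω₂ : 𝒞.presheaf ⟶ AffAlg.alg (𝟙 Y) :=
    { app := fun U => CommRingCat.ofHom ((RingHom.snd _ _).comp (contrSub p h j0 hj U.unop).subtype)
      naturality := fun U U' i => rfl }
  obtain ⟨⟨q, hq⟩, hqω⟩ := (RelSpecUP.toAlg_bijective 𝒞 h).2 ⟨ω₁, rfl⟩
  obtain ⟨⟨ε, hε⟩, hεω⟩ := (RelSpecUP.toAlg_bijective 𝒞 (𝟙 Y)).2 ⟨ω₂, rfl⟩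
  have e1 : ∀ (U : Y.Opens) (b : contrSub p h j0 hj U),
      (q.appLE (𝒞.π ⁻¹ᵁ U) (h ⁻¹ᵁ U) (by rw [← Scheme.Hom.comp_preimage, hq])).hom (toC p h j0 hj U b) = b.1.1 :=
    fun U b => by
      have := congr($(NatTrans.congr_app (congrArg Subtype.val hqω) (op U)) b)
      dsimp only [RelSpecUP.toAlg] at this
      rw [NatTrans.comp_app, RelSpecUP.algHom_app] at this
      exact this
  have e2 : ∀ (U : Y.Opens) (b : contrSub p h j0 hj U),
      (ε.appLE (𝒞.π ⁻¹ᵁ U) U (by rw [← Scheme.Hom.comp_preimage, hε]; exact le_rfl)).hom (toC p h j0 hj U b) = b.1.2 :=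
    fun U b => by
      have := congr($(NatTrans.congr_app (congrArg Subtype.val hεω) (op U)) b)
      dsimp only [RelSpecUP.toAlg] at this
      rw [NatTrans.comp_app, RelSpecUP.algHom_app] at this
      exact this
  refine ⟨q, ε, hq, hε, ?_, e1, e2⟩
  refine congrArg Subtype.val ((RelSpecUP.toAlg_bijective 𝒞 p).1
    (a₁ := ⟨j0 ≫ q, by rw [Category.assoc, hq, hj]⟩) (a₂ := ⟨p ≫ ε, by rw [Category.assoc, hε, Category.comp_id]⟩) ?_)
  refine Subtype.ext (NatTrans.ext (funext fun U => CommRingCat.hom_ext (RingHom.ext fun b => ?_)))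
  dsimp only [RelSpecUP.toAlg]
  rw [NatTrans.comp_app, NatTrans.comp_app, RelSpecUP.algHom_app, RelSpecUP.algHom_app,
    ← Scheme.Hom.appLE_comp_appLE j0 q (𝒞.π ⁻¹ᵁ U.unop) (h ⁻¹ᵁ U.unop) (p ⁻¹ᵁ U.unop)
      (by rw [← Scheme.Hom.comp_preimage, hq]) (le_contr p h j0 hj U.unop),
    ← Scheme.Hom.appLE_comp_appLE p ε (𝒞.π ⁻¹ᵁ U.unop) U.unop (p ⁻¹ᵁ U.unop)
      (by rw [← Scheme.Hom.comp_preimage, hε]; exact le_rfl) le_rfl, Scheme.Hom.appLE_eq_app]
  change rj p h j0 hj U.unop ((q.appLE _ _ _).hom (toC p h j0 hj U.unop b)) =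
    (p.app U.unop).hom ((ε.appLE _ _ _).hom (toC p h j0 hj U.unop b))
  rw [e1, e2]
  exact b.2

variable {q : V ⟶ (contrAlg p h j0 hj).spec} (hq : q ≫ (contrAlg p h j0 hj).π = h)
  (hqC : ∀ (U : Y.Opens) (b : contrSub p h j0 hj U),
    (q.appLE ((contrAlg p h j0 hj).π ⁻¹ᵁ U) (h ⁻¹ᵁ U)
      (by rw [← Scheme.Hom.comp_preimage, hq])).hom (toC p h j0 hj U b) = b.1.1)
  {U : Y.Opens} (hU : IsAffineOpen U) {a : Γ(V, h ⁻¹ᵁ U)} (ha : rj p h j0 hj U a = 0)

/-- a function vanishing on the section -/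
abbrev liftVan {a : Γ(V, h ⁻¹ᵁ U)} (ha : rj p h j0 hj U a = 0) : contrSub p h j0 hj U :=
  ⟨(a, 0), by rw [mem_contrSub_iff, map_zero]; exact ha⟩

include hq hqC in
lemma preimage_basicOpen_toC (b : contrSub p h j0 hj U) :
    q ⁻¹ᵁ (contrAlg p h j0 hj).spec.basicOpen (toC p h j0 hj U b) = V.basicOpen b.1.1 := by
  have hle : q ⁻¹ᵁ ((contrAlg p h j0 hj).π ⁻¹ᵁ U) = h ⁻¹ᵁ U := by rw [← Scheme.Hom.comp_preimage, hq]
  rw [← hqC U b, Scheme.basicOpen_appLE]
  exact (inf_eq_right.2 ((q.preimage_mono ((contrAlg p h j0 hj).spec.basicOpen_le _)).trans hle.le)).symm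

include hq hqC hU in
/-- **the contraction is an isomorphism over the locus of a function vanishing on the section** -/
theorem isIso_restrict (hD : IsAffineOpen (V.basicOpen a)) :
    IsIso (q ∣_ (contrAlg p h j0 hj).spec.basicOpen (toC p h j0 hj U (liftVan p h j0 hj ha))) := by
  let C := (contrAlg p h j0 hj).spec
  let b₀ := liftVan p h j0 hj ha
  let D := C.basicOpen (toC p h j0 hj U b₀)
  have hW : IsAffineOpen ((contrAlg p h j0 hj).π ⁻¹ᵁ U) := hU.preimage _
  have hVc := h.isCompact_preimage hU.isCompact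
  have hVq := h.isQuasiSeparated_preimage hU.isQuasiSeparated
  have hpre : q ⁻¹ᵁ D = V.basicOpen a := preimage_basicOpen_toC p h j0 hj hq hqC b₀
  have hDaff : IsAffineOpen D := hW.basicOpen _
  have hnat : ∀ x, (q.appLE D (V.basicOpen a) hpre.ge).hom (resO C (C.basicOpen_le _) (toC p h j0 hj U x)) =
      resO V (V.basicOpen_le a) x.1.1 := fun x => by
    conv_rhs => rw [← hqC U x]
    change (C.presheaf.map (homOfLE (C.basicOpen_le (toC p h j0 hj U b₀))).op ≫ q.appLE _ _ _).hom _ =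
      (q.appLE _ _ _ ≫ V.presheaf.map (homOfLE (V.basicOpen_le a)).op).hom _
    rw [Scheme.Hom.map_appLE, Scheme.Hom.appLE_map]
  have hbij : Function.Bijective (q.appLE D (V.basicOpen a) hpre.ge).hom := by
    haveI := hW.isLocalization_basicOpen (toC p h j0 hj U b₀)
    refine ⟨(injective_iff_map_eq_zero _).2 fun z hz => ?_, fun y => ?_⟩
    · obtain ⟨k, B, hB⟩ := IsLocalization.Away.surj (toC p h j0 hj U b₀) z
      obtain ⟨b, rfl⟩ := (toC_bijective p h j0 hj U).2 B
      have h1 : (q.appLE D (V.basicOpen a) hpre.ge).hom (resO C (C.basicOpen_le _) (toC p h j0 hj U b)) = 0 := by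
        rw [show resO C (C.basicOpen_le _) (toC p h j0 hj U b) =
          z * algebraMap _ Γ(C, D) (toC p h j0 hj U b₀) ^ k from hB.symm, map_mul, hz, zero_mul]
      rw [hnat] at h1
      obtain ⟨N, hN⟩ := exists_pow_mul_eq hVc hVq (f := a) (a := b.1.1) (b := 0) (by rw [h1, map_zero])
      have h2 : b₀ ^ (N + 1) * b = 0 := by
        refine Subtype.ext (Prod.ext ?_ ?_)
        · change a ^ (N + 1) * b.1.1 = 0
          rw [pow_succ', mul_assoc, hN, mul_zero, mul_zero]
        · change (0 : Γ(Y, U)) ^ (N + 1) * b.1.2 = 0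
          rw [zero_pow (N.succ_ne_zero), zero_mul]
      have h3 := congrArg (fun t => resO C (C.basicOpen_le (toC p h j0 hj U b₀)) (toC p h j0 hj U t)) h2
      simp only [map_mul, map_pow, map_zero] at h3
      rw [show resO C (C.basicOpen_le _) (toC p h j0 hj U b) =
          z * resO C (C.basicOpen_le _) (toC p h j0 hj U b₀) ^ k from hB.symm] at h3
      have hu : IsUnit (resO C (C.basicOpen_le (toC p h j0 hj U b₀)) (toC p h j0 hj U b₀)) :=
        RingedSpace.isUnit_res_basicOpen _ _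
      rw [(hu.pow _).mul_right_eq_zero, (hu.pow _).mul_left_eq_zero] at h3
      exact h3
    · obtain ⟨k, a', ha'⟩ := exists_pow_mul_res hVc hVq a y
      let b : contrSub p h j0 hj U := ⟨(a * a', 0), by rw [mem_contrSub_iff, map_zero, map_mul, ha, zero_mul]⟩
      obtain ⟨v, hv⟩ : IsUnit (resO C (C.basicOpen_le (toC p h j0 hj U b₀)) (toC p h j0 hj U b₀) ^ (k + 1)) :=
        (RingedSpace.isUnit_res_basicOpen _ _).pow _
      refine ⟨resO C (C.basicOpen_le (toC p h j0 hj U b₀)) (toC p h j0 hj U b) * ((v⁻¹ : _ˣ) : Γ(C, _)), ?_⟩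
      have hu : IsUnit (resO V (V.basicOpen_le a) a ^ (k + 1)) := (RingedSpace.isUnit_res_basicOpen _ a).pow _
      refine hu.mul_right_cancel ?_
      have h4 : resO V (V.basicOpen_le a) a ^ (k + 1) = (q.appLE D (V.basicOpen a) hpre.ge).hom ↑v := by
        rw [hv, map_pow, hnat]
      conv_lhs => rw [h4]
      rw [← map_mul, mul_assoc, Units.inv_mul, mul_one, hnat]
      change resO V _ (a * a') = _
      rw [map_mul, ← ha', pow_succ]
      ring
  have key : ∀ (D' : C.Opens), D' = D → IsIso (q.app D') := by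
    rintro _ rfl
    rw [ConcreteCategory.isIso_iff_bijective, ← Scheme.Hom.appLE_eq_app q]
    exact (fun E (hE : E = V.basicOpen a) (e : E ≤ q ⁻¹ᵁ D) => by
      subst hE; exact hbij : ∀ E, E = V.basicOpen a → ∀ e, Function.Bijective (q.appLE D E e).hom) _ hpre le_rfl
  haveI : IsAffine (D : Scheme.{u}) := hDaff
  refine (HasAffineProperty.iff_of_isAffine (P := MorphismProperty.isomorphisms Scheme.{u})).2 ⟨?_, ?_⟩
  · exact (hpre ▸ hD : IsAffineOpen (q ⁻¹ᵁ D))
  · rw [morphismRestrict_appTop]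
    haveI := key (D.ι ''ᵁ ⊤) (by simp)
    infer_instance

end Groth.Agent.EGA2Cone
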