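import Mathlib.AlgebraicGeometry.AffineScheme
import Mathlib.AlgebraicGeometry.Restrict
import Mathlib.AlgebraicGeometry.Cover.Open
import Mathlib.AlgebraicGeometry.Gluing

/-!
# Factoring through a closed surjection with `O = q_* O`
-/

set_option autoImplicit false
set_option linter.style.haveILetI false
set_option linter.unusedSectionVars false
set_option backward.isDefEq.respectTransparency false
set_option backward.isDefEq.respectTransparency.types false

universe u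

open CategoryTheory CategoryTheory.Limits AlgebraicGeometry TopologicalSpace Opposite

noncomputable section

namespace Groth.Agent.EGA2Cone

variable {V C Z : Scheme.{u}}

/-- A surjection which is injective on functions is an epimorphism. -/
theorem hom_ext_of_app_injective (q : V ⟶ C) (hs : Function.Surjective q.base)
    (hi : ∀ U : C.Opens, Function.Injective (q.app U).hom) {a b : C ⟶ Z} (h : q ≫ a = q ≫ b) : a = b := by
  have hbase : ∀ x, a x = b x := fun x => by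
    obtain ⟨v, rfl⟩ := hs x
    exact congr($h v)
  have hloc : ∀ x : C, ∃ O : C.Opens, x ∈ O ∧ O.ι ≫ a = O.ι ≫ b := fun x => by
    obtain ⟨W, hW, hxW, -⟩ := exists_isAffineOpen_mem_and_subset (x := a x) (U := (⊤ : Z.Opens)) trivial
    obtain ⟨O, hO, hxO, hOW⟩ := exists_isAffineOpen_mem_and_subset (x := x) (U := a ⁻¹ᵁ W) hxW
    have hOW' : O ≤ b ⁻¹ᵁ W := fun y hy => by
      show b y ∈ W
      rw [← hbase]; exact hOW hy
    refine ⟨O, hxO, ?_⟩
    have key : a.appLE W O hOW = b.appLE W O hOW' := by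
      refine CommRingCat.hom_ext (RingHom.ext fun w => hi O ?_)
      change (a.appLE W O hOW ≫ q.app O).hom w = (b.appLE W O hOW' ≫ q.app O).hom w
      rw [Scheme.Hom.app_eq_appLE, Scheme.Hom.appLE_comp_appLE, Scheme.Hom.appLE_comp_appLE]
      simp only [h]
    have e1 := hW.SpecMap_appLE_fromSpec a hO hOW
    have e2 := hW.SpecMap_appLE_fromSpec b hO hOW'
    rw [key, e2] at e1
    rw [← cancel_epi hO.isoSpec.inv, ← Category.assoc, ← Category.assoc]
    exact e1.symm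
  choose O hxO hO using hloc
  exact (C.openCoverOfIsOpenCover O (.mk (eq_top_iff.mpr fun t _ => Opens.mem_iSup.mpr ⟨t, hxO t⟩))).hom_ext _ _ hO

/-- the same over an open of the target -/
theorem hom_ext_of_app_injective_open (q : V ⟶ C) (hs : Function.Surjective q.base)
    (hi : ∀ U : C.Opens, Function.Injective (q.app U).hom) {P : Scheme.{u}} (g : P ⟶ C) [IsOpenImmersion g]
    {a b : P ⟶ Z} (h : ∀ (T : Scheme.{u}) (s : T ⟶ V) (t : T ⟶ P), s ≫ q = t ≫ g → t ≫ a = t ≫ b) : a = b := by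
  let O := g.opensRange
  have hcomm : (q ⁻¹ᵁ O).ι ≫ q = ((q ∣_ O) ≫ g.isoOpensRange.inv) ≫ g := by
    rw [Category.assoc, Scheme.Hom.isoOpensRange_inv_comp, morphismRestrict_ι]
  have h2 := h _ (q ⁻¹ᵁ O).ι _ hcomm
  rw [Category.assoc, Category.assoc] at h2
  rw [← cancel_epi g.isoOpensRange.inv]
  refine hom_ext_of_app_injective (q ∣_ O) (fun x => ?_) (fun U => ?_) h2
  · obtain ⟨v, hv⟩ := hs (O.ι x)
    refine ⟨⟨v, show q v ∈ O by rw [hv]; exact x.2⟩, O.ι.isOpenEmbedding.injective ?_⟩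
    rw [← Scheme.Hom.comp_apply, morphismRestrict_ι, Scheme.Hom.comp_apply]
    exact hv
  · rw [morphismRestrict_app, CommRingCat.hom_comp, RingHom.coe_comp]
    exact (ConcreteCategory.bijective_of_isIso _).1.comp (hi _)

/-- **Factorisation.** -/
theorem existsUnique_factor (q' : V ⟶ C) (hs : Function.Surjective q'.base) (hcl : IsClosedMap q'.base)
    (hb : ∀ U : C.Opens, Function.Bijective (q'.app U).hom) (q : V ⟶ Z)
    (hfib : ∀ a b : V, q' a = q' b → q a = q b) : ∃! u : C ⟶ Z, q' ≫ u = q := by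
  have hi : ∀ U : C.Opens, Function.Injective (q'.app U).hom := fun U => (hb U).1
  have hloc : ∀ y : C, ∃ O : C.Opens, y ∈ O ∧ ∃ k : (O : Scheme.{u}) ⟶ Z,
      (q' ∣_ O) ≫ k = (q' ⁻¹ᵁ O).ι ≫ q := fun y => by
    obtain ⟨v, rfl⟩ := hs y
    obtain ⟨W, hW, hvW, -⟩ := exists_isAffineOpen_mem_and_subset (x := q v) (U := (⊤ : Z.Opens)) trivial
    let Cl : Set C := q'.base '' ((q ⁻¹ᵁ W : V.Opens) : Set V)ᶜ
    have hyCl : q' v ∈ (⟨Clᶜ, (hcl _ (q ⁻¹ᵁ W).isOpen.isClosed_compl).isOpen_compl⟩ : C.Opens) := by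
      rintro ⟨x, hx, e⟩
      exact hx (show q x ∈ W by rw [hfib x v e]; exact hvW)
    obtain ⟨O, hO, hvO, hOs⟩ := exists_isAffineOpen_mem_and_subset hyCl
    have hle : q' ⁻¹ᵁ O ≤ q ⁻¹ᵁ W := fun x hx => by
      by_contra hn
      exact hOs hx ⟨x, hn, rfl⟩
    haveI : IsIso (q'.app O) := (ConcreteCategory.isIso_iff_bijective _).mpr (hb O)
    let χ : Γ(Z, W) ⟶ Γ(C, O) := q.appLE W (q' ⁻¹ᵁ O) hle ≫ inv (q'.app O)
    refine ⟨O, hvO, hO.isoSpec.hom ≫ Spec.map χ ≫ hW.fromSpec, ?_⟩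
    have hloc2 : ∀ x : (q' ⁻¹ᵁ O : V.Opens).toScheme, ∃ O' : (q' ⁻¹ᵁ O : V.Opens).toScheme.Opens, x ∈ O' ∧
        O'.ι ≫ ((q' ∣_ O) ≫ hO.isoSpec.hom ≫ Spec.map χ ≫ hW.fromSpec) = O'.ι ≫ (q' ⁻¹ᵁ O).ι ≫ q := fun x => by
      obtain ⟨A, hA, hxA, hAO⟩ := exists_isAffineOpen_mem_and_subset (x := x.1) (U := q' ⁻¹ᵁ O) x.2
      let j := IsOpenImmersion.lift (q' ⁻¹ᵁ O).ι hA.fromSpec (by
        rw [hA.range_fromSpec, Scheme.Opens.range_ι]; exact hAO)
      have hj : j ≫ (q' ⁻¹ᵁ O).ι = hA.fromSpec := IsOpenImmersion.lift_fac _ _ _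
      refine ⟨j.opensRange, ?_, ?_⟩
      · obtain ⟨w, hw⟩ := hA.range_fromSpec.ge hxA
        exact ⟨w, (q' ⁻¹ᵁ O).ι.isOpenEmbedding.injective (by rw [← Scheme.Hom.comp_apply, hj]; exact hw)⟩
      · rw [← cancel_epi j.isoOpensRange.hom]
        simp only [← Category.assoc, Scheme.Hom.isoOpensRange_hom_ι]
        have h1 : j ≫ (q' ∣_ O) ≫ hO.isoSpec.hom = Spec.map (q'.appLE O A hAO) := by
          rw [← cancel_mono hO.fromSpec, Category.assoc, Category.assoc]
          have : hO.isoSpec.hom ≫ hO.fromSpec = O.ι := by rw [IsAffineOpen.fromSpec, Iso.hom_inv_id_assoc]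
          rw [this, morphismRestrict_ι, reassoc_of% hj, hO.SpecMap_appLE_fromSpec]
        have h2 : j ≫ (q' ⁻¹ᵁ O).ι ≫ q = Spec.map (q.appLE W A (hAO.trans hle)) ≫ hW.fromSpec := by
          rw [reassoc_of% hj, hW.SpecMap_appLE_fromSpec]
        simp only [Category.assoc]
        rw [h2, reassoc_of% h1, ← Category.assoc, ← Spec.map_comp]
        congr 2
        rw [Category.assoc]
        change q.appLE W (q' ⁻¹ᵁ O) hle ≫ inv (q'.app O) ≫ q'.app O ≫ V.presheaf.map (homOfLE hAO).op = _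
        rw [IsIso.inv_hom_id_assoc, Scheme.Hom.appLE_map]
    choose O' hxO' hO' using hloc2
    exact ((q' ⁻¹ᵁ O).toScheme.openCoverOfIsOpenCover O'
      (.mk (eq_top_iff.mpr fun t _ => Opens.mem_iSup.mpr ⟨t, hxO' t⟩))).hom_ext _ _ hO'
  choose O hyO k hk using hloc
  let 𝒰 := C.openCoverOfIsOpenCover O (.mk (eq_top_iff.mpr fun t _ => Opens.mem_iSup.mpr ⟨t, hyO t⟩))
  have hcompat : ∀ x y : C, pullback.fst (O x).ι (O y).ι ≫ k x = pullback.snd (O x).ι (O y).ι ≫ k y := fun x y => by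
    refine hom_ext_of_app_injective_open q' hs hi (pullback.fst (O x).ι (O y).ι ≫ (O x).ι) fun T s t hst => ?_
    have key : ∀ (z : C) (r : T ⟶ (O z : Scheme.{u})), r ≫ (O z).ι = s ≫ q' → r ≫ k z = s ≫ q := fun z r hr => by
      let l := IsOpenImmersion.lift (q' ⁻¹ᵁ O z).ι s (by
        rw [Scheme.Opens.range_ι]
        rintro _ ⟨w, rfl⟩
        show q' (s w) ∈ O z
        rw [← Scheme.Hom.comp_apply, ← hr]
        exact (r w).2)
      have hl : l ≫ (q' ⁻¹ᵁ O z).ι = s := IsOpenImmersion.lift_fac _ _ _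
      have hr' : r = l ≫ (q' ∣_ O z) := by
        rw [← cancel_mono (O z).ι, hr, Category.assoc, morphismRestrict_ι, reassoc_of% hl]
      rw [hr', Category.assoc, hk z, reassoc_of% hl]
    rw [← Category.assoc, ← Category.assoc, key x _ (by rw [Category.assoc]; exact hst.symm),
      key y _ (by rw [Category.assoc, ← pullback.condition]; exact hst.symm)]
  let u := 𝒰.glueMorphisms k hcompat
  have hu : ∀ x, (O x).ι ≫ u = k x := fun x => 𝒰.ι_glueMorphisms k hcompat x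
  have hqu : q' ≫ u = q := by
    refine (V.openCoverOfIsOpenCover (fun x : C => q' ⁻¹ᵁ O x)
      (.mk (eq_top_iff.mpr fun v _ => Opens.mem_iSup.mpr ⟨q' v, hyO (q' v)⟩))).hom_ext _ _ fun x => ?_
    show (q' ⁻¹ᵁ O x).ι ≫ q' ≫ u = (q' ⁻¹ᵁ O x).ι ≫ q
    rw [← morphismRestrict_ι_assoc, hu, hk]
  exact ⟨u, hqu, fun u' hu' => hom_ext_of_app_injective q' hs hi (hu'.trans hqu.symm)⟩

end Groth.Agent.EGA2Cone
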