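import Groth.Agent.EGA2Cone.Proper
import Groth.Agent.EGA2Cone.Factor
import Groth.Agent.SteinGen.Basic
import Groth.Agent.RelSpecUP.Basic

/-!
# The contraction to the spectrum of the direct image algebra
-/

set_option autoImplicit false
set_option linter.style.haveILetI false
set_option linter.unusedSectionVars false
set_option backward.isDefEq.respectTransparency false
set_option backward.isDefEq.respectTransparency.types false

universe u

open CategoryTheory CategoryTheory.Limits AlgebraicGeometry TopologicalSpace Opposite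
open Groth.Agent.QC (res resO res_res res_self res_smul resO_resO resO_self)

noncomputable section

namespace Groth.Agent.EGA2Cone

open Groth.Agent

variable {X : Scheme.{u}} {L : X.Modules} {𝒮 : RelProj.QCGrAlg X}
  (hL : PicF.IsInvertible L) (hLq : Coh.IsQCoh L) {j : L ⟶ 𝒮.toModule} (hj : RelProj.IsGrSymAlg L 𝒮 j)
  {aug : 𝒮.toQCAlg ⟶ RelSpec.QCAlg.unit X} {j0 : X ⟶ 𝒮.toQCAlg.spec}
  (hj0 : RelCone.IsVertex 𝒮 aug j0) (haug : RelCone.IsAugmentation 𝒮 aug) {Y : Scheme.{u}} (p : X ⟶ Y)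
  [IsProper p]

include hL hLq hj haug hj0 in
/-- the proper contraction, with its functions -/
theorem exists_proper_contraction' (hamp : RelAmple.IsRelAmple p L)
    (V0 : 𝒮.toQCAlg.spec.Opens) (hV0 : (V0 : Set 𝒮.toQCAlg.spec) = (Set.range j0.base)ᶜ) :
    ∃ (q : 𝒮.toQCAlg.spec ⟶ (contrAlg p (𝒮.toQCAlg.π ≫ p) j0 (j0_comp hj0 p)).spec)
      (ε : Y ⟶ (contrAlg p (𝒮.toQCAlg.π ≫ p) j0 (j0_comp hj0 p)).spec)
      (hq : q ≫ (contrAlg p (𝒮.toQCAlg.π ≫ p) j0 (j0_comp hj0 p)).π = 𝒮.toQCAlg.π ≫ p)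
      (_ : ε ≫ (contrAlg p (𝒮.toQCAlg.π ≫ p) j0 (j0_comp hj0 p)).π = 𝟙 Y),
      j0 ≫ q = p ≫ ε ∧ IsProper q ∧ IsOpenImmersion (V0.ι ≫ q) ∧
        Set.range (V0.ι ≫ q).base = (Set.range ε.base)ᶜ ∧
        ∀ (U : Y.Opens) (b : contrSub p (𝒮.toQCAlg.π ≫ p) j0 (j0_comp hj0 p) U),
          (q.appLE ((contrAlg p (𝒮.toQCAlg.π ≫ p) j0 (j0_comp hj0 p)).π ⁻¹ᵁ U) ((𝒮.toQCAlg.π ≫ p) ⁻¹ᵁ U)
            (by rw [← Scheme.Hom.comp_preimage, hq])).hom (toC p _ j0 (j0_comp hj0 p) U b) = b.1.1 := by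
  let h := 𝒮.toQCAlg.π ≫ p
  let hj' := j0_comp hj0 p
  obtain ⟨q, ε, hq, hε, hjq, hoi, hqc, hdis, hqC, hεC⟩ :=
    exists_contraction_of_isRelAmple hj0 p hL hLq hj haug hamp V0 hV0
  let g := (contrAlg p h j0 hj').π
  haveI := locallyOfFiniteType_π hL hLq hj
  haveI : IsIntegralHom (pullback.lift 𝒮.toQCAlg.π q hq.symm) :=
    isIntegralHom_lift hL hLq hj hj0 haug p hamp V0 hV0 hq hqC
  haveI hsep : IsSeparated q := by
    haveI : IsSeparated (q ≫ g) := by rw [hq]; infer_instance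
    exact IsSeparated.of_comp q g
  haveI hlft : LocallyOfFiniteType q := by
    haveI : LocallyOfFiniteType (q ≫ g) := by rw [hq]; infer_instance
    exact locallyOfFiniteType_of_comp q g
  haveI huc : UniversallyClosed q := by
    rw [← pullback.lift_snd 𝒮.toQCAlg.π q hq.symm]
    infer_instance
  refine ⟨q, ε, hq, hε, hjq, ⟨⟩, hoi, Set.Subset.antisymm ?_ ?_, hqC⟩
  · exact fun z hz hz' => (Set.eq_empty_iff_forall_notMem.1 hdis z) ⟨hz, hz'⟩
  intro z hz
  let C := (contrAlg p h j0 hj').spec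
  obtain ⟨U, hU, hzU, -⟩ := exists_isAffineOpen_mem_and_subset (x := g.base z) (U := (⊤ : Y.Opens)) trivial
  have hgU : IsAffineOpen (g ⁻¹ᵁ U) := hU.preimage _
  have hzg : z ∈ g ⁻¹ᵁ U := hzU
  by_cases hcase : ∃ (a : Γ(𝒮.toQCAlg.spec, h ⁻¹ᵁ U)) (ha : rj p h j0 hj' U a = 0),
      z ∈ C.basicOpen (toC p h j0 hj' U (liftVan p h j0 hj' ha))
  · obtain ⟨a, ha, hza⟩ := hcase
    by_cases hzr : z ∈ Set.range q.base
    · obtain ⟨v, rfl⟩ := hzr
      have hv : v ∈ 𝒮.toQCAlg.spec.basicOpen a := by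
        have h1 : v ∈ q ⁻¹ᵁ C.basicOpen (toC p h j0 hj' U (liftVan p h j0 hj' ha)) := hza
        rwa [preimage_basicOpen_toC p h j0 hj' hq hqC] at h1
      have hvV0 : v ∈ V0 := by
        rw [← SetLike.mem_coe, hV0]
        rintro ⟨y, rfl⟩
        exact not_mem_basicOpen_of_rj p ha y hv
      exact ⟨⟨v, hvV0⟩, rfl⟩
    · exfalso
      let O' : C.Opens := ⟨(Set.range q.base)ᶜ, q.isClosedMap.isClosed_range.isOpen_compl⟩
      obtain ⟨f, hfO, hzf⟩ := hgU.exists_basicOpen_le (V := O') ⟨z, hzr⟩ hzg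
      obtain ⟨b, rfl⟩ := (toC_bijective p h j0 hj' U).2 f
      have hbot : 𝒮.toQCAlg.spec.basicOpen (a * b.1.1) = ⊥ := by
        rw [eq_bot_iff, Scheme.basicOpen_mul, ← preimage_basicOpen_toC p h j0 hj' hq hqC b]
        exact fun v hv => (hfO hv.2 ⟨v, rfl⟩).elim
      have hnil := ((Scheme.isNilpotent_iff_basicOpen_eq_bot_of_isCompact
        (h.isCompact_preimage hU.isCompact)) _).2 hbot
      obtain ⟨N, hN⟩ := hnil
      have h2 : (liftVan p h j0 hj' ha * b) ^ (N + 1) = 0 := by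
        refine Subtype.ext (Prod.ext ?_ ?_)
        · change (a * b.1.1) ^ (N + 1) = 0
          rw [pow_succ, hN, zero_mul]
        · change ((0 : Γ(Y, U)) * b.1.2) ^ (N + 1) = 0
          rw [zero_mul, zero_pow N.succ_ne_zero]
      have h3 : z ∈ C.basicOpen (toC p h j0 hj' U ((liftVan p h j0 hj' ha * b) ^ (N + 1))) := by
        rw [map_pow, map_mul, Scheme.basicOpen_pow _ _ N.succ_pos, Scheme.basicOpen_mul]
        exact ⟨hza, hzf⟩
      rw [h2, map_zero, Scheme.basicOpen_zero] at h3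
      exact h3
  exfalso
  push Not at hcase
  refine hz ⟨g.base z, ?_⟩
  have hyU : ε.base (g.base z) ∈ g ⁻¹ᵁ U := by
    show g.base (ε.base (g.base z)) ∈ U
    rw [π_ε p hε]
    exact hzU
  have hiff : ∀ B : Γ(C, g ⁻¹ᵁ U), z ∈ C.basicOpen B ↔ ε.base (g.base z) ∈ C.basicOpen B := by
    intro B
    obtain ⟨b, rfl⟩ := (toC_bijective p h j0 hj' U).2 B
    rw [mem_basicOpen_ε_iff p hε hεC]
    let st : contrSub p h j0 hj' U := ⟨((h.app U).hom b.1.2, b.1.2), rj_app p h j0 hj' U _⟩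
    let d : contrSub p h j0 hj' U := b - st
    have hd : rj p h j0 hj' U d.1.1 = 0 := by
      change rj p h j0 hj' U (b.1.1 - (h.app U).hom b.1.2) = 0
      rw [map_sub, rj_app, (mem_contrSub_iff p h j0 hj').1 b.2, sub_self]
    have hd' : d = liftVan p h j0 hj' hd := Subtype.ext (Prod.ext rfl (sub_self b.1.2))
    have hb : toC p h j0 hj' U b = toC p h j0 hj' U d + toC p h j0 hj' U st := by
      rw [← map_add, sub_add_cancel]
    rw [hb, mem_basicOpen_add_iff (by rw [hd']; exact hcase _ hd), toC_str, ← Scheme.preimage_basicOpen]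
    rfl
  refine (Inseparable.eq (inseparable_iff_forall_isOpen.2 fun O hO => ⟨fun h1 => ?_, fun h1 => ?_⟩))
  · obtain ⟨f, hf, hyf⟩ := hgU.exists_basicOpen_le (V := ⟨O, hO⟩) ⟨_, h1⟩ hyU
    exact hf ((hiff f).2 hyf)
  · obtain ⟨f, hf, hzf⟩ := hgU.exists_basicOpen_le (V := ⟨O, hO⟩) ⟨_, h1⟩ hzg
    exact hf ((hiff f).1 hzf)


omit [IsProper p] in
theorem surjective_of_isIso_c [UniversallyClosed p] (hθ : IsIso p.c) : Function.Surjective p.base := by
  intro y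
  by_contra hy
  let O : Y.Opens := ⟨(Set.range p.base)ᶜ, p.isClosedMap.isClosed_range.isOpen_compl⟩
  have hyO : y ∈ O := hy
  haveI : IsIso (p.c.app (op O)) := inferInstance
  have hbij : Function.Bijective (p.app O).hom := ConcreteCategory.bijective_of_isIso (p.c.app (op O))
  have hbot : p ⁻¹ᵁ O = ⊥ := eq_bot_iff.2 fun x hx => hx ⟨x, rfl⟩
  have h01 : (1 : Γ(Y, O)) = 0 := by
    refine hbij.1 ?_
    haveI : Subsingleton Γ(X, p ⁻¹ᵁ O) := by rw [hbot]; infer_instance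
    exact Subsingleton.elim _ _
  have h2 := congrArg (Y.presheaf.germ O y hyO).hom h01
  rw [map_one, map_zero] at h2
  exact one_ne_zero h2

include hL hLq hj haug hj0 in
/-- the canonical morphism to `Spec` of the direct image -/
theorem exists_props (hθ : IsIso p.c) (hamp : RelAmple.IsRelAmple p L)
    (V0 : 𝒮.toQCAlg.spec.Opens) (hV0 : (V0 : Set 𝒮.toQCAlg.spec) = (Set.range j0.base)ᶜ)
    (q' : 𝒮.toQCAlg.spec ⟶ (RelSpec.QCAlg.directImage (𝒮.toQCAlg.π ≫ p)).spec)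
    (hq'π : q' ≫ (RelSpec.QCAlg.directImage (𝒮.toQCAlg.π ≫ p)).π = 𝒮.toQCAlg.π ≫ p)
    (hq' : AffAlg.algHom (RelSpec.QCAlg.directImage (𝒮.toQCAlg.π ≫ p)).π (𝒮.toQCAlg.π ≫ p) q' hq'π =
      (RelSpec.QCAlg.directImage (𝒮.toQCAlg.π ≫ p)).gammaMap) :
    ∃ ε' : Y ⟶ (RelSpec.QCAlg.directImage (𝒮.toQCAlg.π ≫ p)).spec,
      ε' ≫ (RelSpec.QCAlg.directImage (𝒮.toQCAlg.π ≫ p)).π = 𝟙 Y ∧ j0 ≫ q' = p ≫ ε' ∧
      IsProper q' ∧ Function.Surjective q'.base ∧ (∀ U, Function.Bijective (q'.app U).hom) ∧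
      IsOpenImmersion (V0.ι ≫ q') ∧ Set.range (V0.ι ≫ q').base = (Set.range ε'.base)ᶜ := by
  obtain ⟨q, ε, hq, hε, hjq, hprop, hoi, hrange, hqC⟩ := exists_proper_contraction' hL hLq hj hj0 haug p hamp V0 hV0
  let h := 𝒮.toQCAlg.π ≫ p
  let hj' := j0_comp hj0 p
  let 𝒞 := contrAlg p h j0 hj'
  let 𝒟 := RelSpec.QCAlg.directImage h
  let φ : 𝒞 ⟶ 𝒟 :=
    { hom := { app := fun U => CommRingCat.ofHom ((RingHom.fst _ _).comp (contrSub p h j0 hj' U.unop).subtype)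
               naturality := fun U U' i => rfl }
      comm := rfl }
  have hpb : ∀ U : Y.Opens, Function.Bijective (p.app U).hom := fun U =>
    ConcreteCategory.bijective_of_isIso (p.c.app (op U))
  have hφ : ∀ U, Function.Bijective (φ.hom.app U).hom := fun U => by
    constructor
    · intro b b' e
      have e1 : b.1.1 = b'.1.1 := e
      refine Subtype.ext (Prod.ext e1 ((hpb U.unop).1 ?_))
      rw [← (mem_contrSub_iff p h j0 hj').1 b.2, ← (mem_contrSub_iff p h j0 hj').1 b'.2, e1]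
    · intro a
      obtain ⟨c, hc⟩ := (hpb U.unop).2 (rj p h j0 hj' U.unop a)
      exact ⟨⟨(a, c), (mem_contrSub_iff p h j0 hj').2 hc.symm⟩, rfl⟩
  haveI : ∀ U, IsIso (φ.hom.app U) := fun U => (ConcreteCategory.isIso_iff_bijective _).mpr (hφ U)
  haveI : IsIso φ.hom := NatIso.isIso_of_isIso_app _
  let ψ : 𝒟 ⟶ 𝒞 := { hom := inv φ.hom, comm := (IsIso.comp_inv_eq _).2 φ.comm.symm }
  haveI : IsIso (RelSpec.QCAlg.specMap φ) := by
    refine ⟨RelSpec.QCAlg.specMap ψ, RelSpecUP.hom_ext_charts _ fun U hU => ?_, RelSpecUP.hom_ext_charts _ fun U hU => ?_⟩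
    · rw [reassoc_of% (RelSpec.QCAlg.ι_specMap U hU φ), RelSpec.QCAlg.ι_specMap U hU ψ, ← Spec.map_comp_assoc,
        Category.comp_id, show ψ.hom.app (op U) ≫ φ.hom.app (op U) = 𝟙 _ from by
          rw [← NatTrans.comp_app]; change (inv φ.hom ≫ φ.hom).app (op U) = _; rw [IsIso.inv_hom_id]; rfl,
        Spec.map_id, Category.id_comp]
    · rw [reassoc_of% (RelSpec.QCAlg.ι_specMap U hU ψ), RelSpec.QCAlg.ι_specMap U hU φ, ← Spec.map_comp_assoc,
        Category.comp_id, show φ.hom.app (op U) ≫ ψ.hom.app (op U) = 𝟙 _ from by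
          rw [← NatTrans.comp_app]; change (φ.hom ≫ inv φ.hom).app (op U) = _; rw [IsIso.hom_inv_id]; rfl,
        Spec.map_id, Category.id_comp]
  have hfac : q' ≫ RelSpec.QCAlg.specMap φ = q := by
    refine congrArg Subtype.val ((RelSpecUP.toAlg_bijective 𝒞 h).1
      (a₁ := ⟨q' ≫ RelSpec.QCAlg.specMap φ, by rw [Category.assoc, RelSpec.QCAlg.specMap_π, hq'π]⟩)
      (a₂ := ⟨q, hq⟩) (Subtype.ext ?_))
    rw [RelSpecUP.toAlg_specMap φ h ⟨q', hq'π⟩]
    have h1 : (RelSpecUP.toAlg 𝒟 h ⟨q', hq'π⟩).1 = 𝟙 _ := by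
      dsimp only [RelSpecUP.toAlg]
      rw [hq', IsIso.inv_hom_id]
    rw [h1]
    refine NatTrans.ext (funext fun U => CommRingCat.hom_ext (RingHom.ext fun b => ?_))
    dsimp only [RelSpecUP.toAlg]
    rw [NatTrans.comp_app]
    conv_rhs => rw [NatTrans.comp_app]
    erw [RelSpecUP.algHom_app]
    exact (hqC U.unop b).symm
  have hq'e : q' = q ≫ inv (RelSpec.QCAlg.specMap φ) := by rw [← hfac, Category.assoc, IsIso.hom_inv_id, Category.comp_id]
  refine ⟨ε ≫ inv (RelSpec.QCAlg.specMap φ), ?_, ?_, ?_, ?_, ?_, ?_, ?_⟩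
  · rw [Category.assoc, show inv (RelSpec.QCAlg.specMap φ) ≫ 𝒟.π = 𝒞.π from by
      rw [IsIso.inv_comp_eq, RelSpec.QCAlg.specMap_π], hε]
  · rw [hq'e, reassoc_of% hjq]
  · rw [hq'e]; infer_instance
  · rw [hq'e]
    intro y
    have hy : ∃ v, q v = RelSpec.QCAlg.specMap φ y := by
      by_cases hy : RelSpec.QCAlg.specMap φ y ∈ Set.range ε.base
      · obtain ⟨t, ht⟩ := hy
        obtain ⟨x, rfl⟩ := surjective_of_isIso_c p hθ t
        refine ⟨j0 x, ?_⟩
        rw [← Scheme.Hom.comp_apply, hjq, Scheme.Hom.comp_apply, ht]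
      · rw [← Set.mem_compl_iff, ← hrange] at hy
        obtain ⟨v, hv⟩ := hy
        exact ⟨V0.ι v, hv⟩
    obtain ⟨v, hv⟩ := hy
    refine ⟨v, ?_⟩
    rw [Scheme.Hom.comp_apply, hv, ← Scheme.Hom.comp_apply, IsIso.hom_inv_id]
    rfl
  · intro U
    haveI : QuasiCompact q' := by rw [hq'e]; infer_instance
    haveI : QuasiSeparated q' := by rw [hq'e]; infer_instance
    haveI := SteinGen.isIso_app_of_affine_cover q' (fun W : Y.affineOpens => 𝒟.π ⁻¹ᵁ W.1) (fun W => W.2.preimage _)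
      (fun y => by
        obtain ⟨W, hW, hyW, -⟩ := exists_isAffineOpen_mem_and_subset (x := 𝒟.π y) (U := (⊤ : Y.Opens)) trivial
        exact ⟨⟨W, hW⟩, hyW⟩) (fun W => ?_) U
    · exact ConcreteCategory.bijective_of_isIso _
    · haveI hg : IsIso (𝒟.gammaMap.app (op W.1)) :=
        ⟨(inv 𝒟.gammaMap).app (op W.1), by rw [← NatTrans.comp_app, IsIso.hom_inv_id]; rfl,
          by rw [← NatTrans.comp_app, IsIso.inv_hom_id]; rfl⟩
      have e := NatTrans.congr_app hq' (op W.1)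
      rw [RelSpecUP.algHom_app] at e
      have key : ∀ (O : 𝒮.toQCAlg.spec.Opens) (_ : O = q' ⁻¹ᵁ (𝒟.π ⁻¹ᵁ W.1)) (le : O ≤ q' ⁻¹ᵁ (𝒟.π ⁻¹ᵁ W.1)),
          Function.Bijective (q'.appLE (𝒟.π ⁻¹ᵁ W.1) O le).hom → Function.Bijective (q'.app (𝒟.π ⁻¹ᵁ W.1)).hom := by
        rintro O rfl le hb
        rwa [← Scheme.Hom.app_eq_appLE] at hb
      refine key (h ⁻¹ᵁ W.1) (by rw [← Scheme.Hom.comp_preimage, hq'π]) (by rw [← Scheme.Hom.comp_preimage, hq'π]) ?_
      rw [e]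
      exact ConcreteCategory.bijective_of_isIso _
  · rw [hq'e, ← Category.assoc]; infer_instance
  · rw [hq'e, ← Category.assoc]
    simp only [Scheme.Hom.comp_base, TopCat.coe_comp, Set.range_comp]
    have hbi : Function.Bijective (inv (RelSpec.QCAlg.specMap φ)).base :=
      (inv (RelSpec.QCAlg.specMap φ)).homeomorph.bijective
    rw [← Set.image_compl_eq hbi, ← hrange]
    simp only [Scheme.Hom.comp_base, TopCat.coe_comp, Set.range_comp]
    rfl

end Groth.Agent.EGA2Cone
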