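import Groth.Agent.EGA2Cone.Chart
import Mathlib.RingTheory.PowerSeries.Inverse

/-!
# Expansion of functions along the zero section of a line bundle
-/

set_option autoImplicit false
set_option backward.isDefEq.respectTransparency false
set_option linter.style.haveILetI false

universe u

open CategoryTheory CategoryTheory.Limits AlgebraicGeometry TopologicalSpace Opposite Polynomial
open Groth.Agent.QC (res resO res_res res_self res_smul resO_resO resO_self)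

noncomputable section

namespace Groth.Agent.EGA2Cone

open Groth.Agent
open TMul (IsGen pw)
open Groth.Agent.SymAlg (strL jL evalL resL)

lemma basicOpen_resO {V : Scheme.{u}} {W W' : V.Opens} (h : W' ≤ W) (a : Γ(V, W)) :
    V.basicOpen (resO V h a) = W' ⊓ V.basicOpen a :=
  V.basicOpen_res a (homOfLE h).op

variable {X : Scheme.{u}} {L : X.Modules} {𝒮 : RelProj.QCGrAlg X} (j : L ⟶ 𝒮.toModule)
  {OV : 𝒮.toQCAlg.spec.Opens} (F : Γ(𝒮.toQCAlg.spec, OV))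

/-- `c` is the expansion of `F` along the zero section over `U`. -/
def Exp (U : X.Opens) (e : Γ(L, U)) (c : PowerSeries Γ(X, U)) : Prop :=
  ∃ (g p : Γ(X, U)[X]) (k : ℕ) (hg : 𝒮.toQCAlg.spec.basicOpen (Φ j U e g) ≤ OV),
    g.coeff 0 = 1 ∧
    resO _ hg F * resO _ (Scheme.basicOpen_le _ _) (Φ j U e g) ^ k =
      resO _ (Scheme.basicOpen_le _ _) (Φ j U e p) ∧
    c * (g : PowerSeries Γ(X, U)) ^ k = (p : PowerSeries Γ(X, U))

lemma isUnit_coe {R : Type u} [CommRing R] {g : R[X]} (hg : g.coeff 0 = 1) : IsUnit (g : PowerSeries R) := by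
  rw [PowerSeries.isUnit_iff_constantCoeff, ← PowerSeries.coeff_zero_eq_constantCoeff_apply, Polynomial.coeff_coe, hg]
  exact isUnit_one

variable {j F}

lemma mem_basicOpen_iff_of_eq {U : X.Opens} {e : Γ(L, U)} {g p : Γ(X, U)[X]} {k : ℕ}
    {hg : 𝒮.toQCAlg.spec.basicOpen (Φ j U e g) ≤ OV}
    (h : resO _ hg F * resO _ (Scheme.basicOpen_le _ _) (Φ j U e g) ^ k =
      resO _ (Scheme.basicOpen_le _ _) (Φ j U e p))
    {v : 𝒮.toQCAlg.spec} (hv : v ∈ 𝒮.toQCAlg.spec.basicOpen (Φ j U e g)) :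
    v ∈ 𝒮.toQCAlg.spec.basicOpen F ↔ v ∈ 𝒮.toQCAlg.spec.basicOpen (Φ j U e p) := by
  have hu : IsUnit (resO 𝒮.toQCAlg.spec (Scheme.basicOpen_le _ (Φ j U e g)) (Φ j U e g) ^ k) :=
    (RingedSpace.isUnit_res_basicOpen _ (Φ j U e g)).pow k
  have e1 : 𝒮.toQCAlg.spec.basicOpen (resO 𝒮.toQCAlg.spec hg F * resO 𝒮.toQCAlg.spec (Scheme.basicOpen_le _ _) (Φ j U e g) ^ k) =
      𝒮.toQCAlg.spec.basicOpen (resO 𝒮.toQCAlg.spec hg F) := by
    rw [Scheme.basicOpen_mul, Scheme.basicOpen_of_isUnit _ hu]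
    exact inf_eq_left.2 (𝒮.toQCAlg.spec.basicOpen_le _)
  have e2 : 𝒮.toQCAlg.spec.basicOpen (resO 𝒮.toQCAlg.spec hg F) = 𝒮.toQCAlg.spec.basicOpen (resO 𝒮.toQCAlg.spec (Scheme.basicOpen_le _ (Φ j U e g)) (Φ j U e p)) := by
    rw [← e1, h]
  rw [basicOpen_resO, basicOpen_resO] at e2
  exact ⟨fun hF => (e2.le ⟨hv, hF⟩).2, fun hp => (e2.ge ⟨hv, hp⟩).2⟩

variable (hLq : Coh.IsQCoh L) (hj : RelProj.IsGrSymAlg L 𝒮 j)

include hLq hj in
theorem exp_unique {U : X.Opens} (hU : IsAffineOpen U) {e : Γ(L, U)} (he : IsGen e)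
    {c c' : PowerSeries Γ(X, U)} (h : Exp j F U e c) (h' : Exp j F U e c') : c = c' := by
  obtain ⟨g, p, k, hg, hg0, hF, hc⟩ := h
  obtain ⟨g', p', k', hg', hg0', hF', hc'⟩ := h'
  have hle : 𝒮.toQCAlg.spec.basicOpen (Φ j U e (g * g')) ≤ 𝒮.toQCAlg.spec.basicOpen (Φ j U e g) := by
    rw [map_mul, Scheme.basicOpen_mul]; exact inf_le_left
  have hle' : 𝒮.toQCAlg.spec.basicOpen (Φ j U e (g * g')) ≤ 𝒮.toQCAlg.spec.basicOpen (Φ j U e g') := by
    rw [map_mul, Scheme.basicOpen_mul]; exact inf_le_right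
  have h1 := congrArg (resO 𝒮.toQCAlg.spec hle) hF
  have h2 := congrArg (resO 𝒮.toQCAlg.spec hle') hF'
  simp only [map_mul, map_pow, resO_resO] at h1 h2
  have h3 : resO 𝒮.toQCAlg.spec (Scheme.basicOpen_le _ _ : 𝒮.toQCAlg.spec.basicOpen (Φ j U e (g * g')) ≤ _) (Φ j U e (p * g' ^ k')) =
      resO 𝒮.toQCAlg.spec (Scheme.basicOpen_le _ _ : 𝒮.toQCAlg.spec.basicOpen (Φ j U e (g * g')) ≤ _) (Φ j U e (p' * g ^ k)) := by
    simp only [map_mul, map_pow]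
    rw [← h1, ← h2]
    ring
  obtain ⟨N, hN⟩ : ∃ N : ℕ, Φ j U e (g * g') ^ N * Φ j U e (p * g' ^ k') =
      Φ j U e (g * g') ^ N * Φ j U e (p' * g ^ k) := by
    haveI := (hU.preimage 𝒮.toQCAlg.π).isLocalization_basicOpen (Φ j U e (g * g'))
    obtain ⟨⟨_, N, rfl⟩, hN⟩ := (IsLocalization.eq_iff_exists (Submonoid.powers (Φ j U e (g * g')))
      Γ(𝒮.toQCAlg.spec, 𝒮.toQCAlg.spec.basicOpen (Φ j U e (g * g')))).1 h3
    exact ⟨N, hN⟩
  rw [← map_pow, ← map_mul, ← map_mul] at hN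
  have h4 := congrArg (fun q : Γ(X, U)[X] => (q : PowerSeries Γ(X, U))) ((Φ_bijective j hLq hj hU he).1 hN)
  simp only [Polynomial.coe_mul, Polynomial.coe_pow] at h4
  rw [← hc, ← hc'] at h4
  have hu : IsUnit (((g : PowerSeries Γ(X, U)) * (g' : PowerSeries Γ(X, U))) ^ N *
      ((g : PowerSeries Γ(X, U)) ^ k * (g' : PowerSeries Γ(X, U)) ^ k')) :=
    (((isUnit_coe hg0).mul (isUnit_coe hg0')).pow N).mul (((isUnit_coe hg0).pow k).mul ((isUnit_coe hg0').pow k'))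
  refine hu.mul_left_cancel ?_
  linear_combination h4

theorem exp_chg {U U' : X.Opens} (h : U' ≤ U) {e : Γ(L, U)} {e' : Γ(L, U')} {w : Γ(X, U')}
    (hw : res L h e = w • e') {c : PowerSeries Γ(X, U)} (hc : Exp j F U e c) :
    Exp j F U' e' (chgS h w c) := by
  obtain ⟨g, p, k, hg, hg0, hF, hc⟩ := hc
  have hD : 𝒮.toQCAlg.spec.basicOpen (Φ j U' e' (chg h w g)) ≤ 𝒮.toQCAlg.spec.basicOpen (Φ j U e g) := by
    rw [← res_Φ j h hw, basicOpen_resO]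
    exact inf_le_right
  refine ⟨chg h w g, chg h w p, k, hD.trans hg, ?_, ?_, ?_⟩
  · have := congrArg (PowerSeries.coeff 0) (coe_chg h w g)
    rw [Polynomial.coeff_coe, coeff_chgS, Polynomial.coeff_coe, hg0, map_one, pow_zero, one_mul] at this
    exact this
  · have := congrArg (resO 𝒮.toQCAlg.spec hD) hF
    simp only [map_mul, map_pow, resO_resO] at this
    simp only [← res_Φ j h hw, resO_resO]
    exact this
  · rw [coe_chg, coe_chg, ← map_pow, ← map_mul, hc]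

variable {aug : 𝒮.toQCAlg ⟶ RelSpec.QCAlg.unit X} (haug : RelCone.IsAugmentation 𝒮 aug)
  {j0 : X ⟶ 𝒮.toQCAlg.spec} (hj0 : RelCone.IsVertex 𝒮 aug j0)

include hLq hj haug hj0 in
theorem exists_exp {U : X.Opens} (hU : IsAffineOpen U) {e : Γ(L, U)} (he : IsGen e)
    (h0 : ∀ x ∈ U, j0.base x ∈ OV) : ∃ c, Exp j F U e c := by
  let Wp := 𝒮.toQCAlg.π ⁻¹ᵁ U
  have hW : IsAffineOpen Wp := hU.preimage 𝒮.toQCAlg.π
  let Cl : Set (PrimeSpectrum Γ(𝒮.toQCAlg.spec, Wp)) := (hW.fromSpec ⁻¹ᵁ OV : (Spec Γ(𝒮.toQCAlg.spec, Wp)).Opens).1ᶜ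
  have hClosed : IsClosed Cl := (hW.fromSpec ⁻¹ᵁ OV).2.isClosed_compl
  let J := PrimeSpectrum.vanishingIdeal Cl
  have htop : J ⊔ Ideal.span {Φ j U e Polynomial.X} = ⊤ := by
    by_contra hne
    obtain ⟨m, hm, hle⟩ := Ideal.exists_le_maximal _ hne
    let P : PrimeSpectrum Γ(𝒮.toQCAlg.spec, Wp) := ⟨m, hm.isPrime⟩
    have hP : P ∈ Cl := by
      rw [← hClosed.closure_eq, ← PrimeSpectrum.zeroLocus_vanishingIdeal_eq_closure]
      exact le_sup_left.trans hle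
    have hv : hW.fromSpec P ∈ Wp := by
      have h : hW.fromSpec P ∈ hW.fromSpec.opensRange := ⟨P, rfl⟩
      rwa [hW.opensRange_fromSpec] at h
    have hnot : hW.fromSpec P ∉ 𝒮.toQCAlg.spec.basicOpen (Φ j U e Polynomial.X) := by
      intro hmem
      change P ∈ hW.fromSpec ⁻¹ᵁ 𝒮.toQCAlg.spec.basicOpen _ at hmem
      rw [hW.fromSpec_preimage_basicOpen] at hmem
      exact hmem (hle (Ideal.mem_sup_right (Ideal.mem_span_singleton_self _)))
    obtain ⟨x, hx⟩ := not_not.1 ((not_mem_range_j0_iff j hLq hj hU he haug hj0 hv).not.2 hnot)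
    refine hP ?_
    change hW.fromSpec P ∈ OV
    have hxU : x ∈ U := by
      have : 𝒮.toQCAlg.π.base (j0.base x) ∈ U := by rw [hx]; exact hv
      rwa [← Scheme.Hom.comp_apply, hj0.comp_π] at this
    rw [← hx]
    exact h0 x hxU
  obtain ⟨a, haJ, b, hb, hab⟩ := Submodule.mem_sup.1 (htop ▸ Submodule.mem_top : (1 : Γ(𝒮.toQCAlg.spec, Wp)) ∈ _)
  obtain ⟨g, hg⟩ := (Φ_bijective j hLq hj hU he).2 a
  obtain ⟨b, rfl⟩ := Ideal.mem_span_singleton'.1 hb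
  obtain ⟨q, rfl⟩ := (Φ_bijective j hLq hj hU he).2 b
  have hg0 : g.coeff 0 = 1 := by
    have : g + q * Polynomial.X = 1 := (Φ_bijective j hLq hj hU he).1 (by rw [map_add, map_mul, map_one, hg, hab])
    simpa using congrArg (fun t : Γ(X, U)[X] => t.coeff 0) this
  have hgO : 𝒮.toQCAlg.spec.basicOpen (Φ j U e g) ≤ OV := by
    intro v hv
    have hvW : v ∈ Wp := 𝒮.toQCAlg.spec.basicOpen_le _ hv
    by_contra hvO
    have hP : hW.primeIdealOf ⟨v, hvW⟩ ∈ Cl := fun h => hvO (by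
      have h' : hW.fromSpec (hW.primeIdealOf ⟨v, hvW⟩) ∈ OV := h
      rwa [hW.fromSpec_primeIdealOf] at h')
    have h1 : a ∈ (hW.primeIdealOf ⟨v, hvW⟩).asIdeal := (PrimeSpectrum.mem_vanishingIdeal _ _).1 haJ _ hP
    have h2 : hW.primeIdealOf ⟨v, hvW⟩ ∈ hW.fromSpec ⁻¹ᵁ 𝒮.toQCAlg.spec.basicOpen (Φ j U e g) := by
      change hW.fromSpec (hW.primeIdealOf ⟨v, hvW⟩) ∈ 𝒮.toQCAlg.spec.basicOpen (Φ j U e g)
      rw [show hW.fromSpec (hW.primeIdealOf ⟨v, hvW⟩) = v from hW.fromSpec_primeIdealOf _]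
      exact hv
    rw [hW.fromSpec_preimage_basicOpen, hg] at h2
    exact h2 h1
  haveI := hW.isLocalization_basicOpen (Φ j U e g)
  obtain ⟨k, P, hP⟩ := IsLocalization.Away.surj (Φ j U e g) (resO 𝒮.toQCAlg.spec hgO F)
  obtain ⟨p, rfl⟩ := (Φ_bijective j hLq hj hU he).2 P
  obtain ⟨u, hu⟩ := (isUnit_coe hg0).pow k
  exact ⟨(p : PowerSeries Γ(X, U)) * ↑u⁻¹, g, p, k, hgO, hg0, hP, by rw [mul_assoc, ← hu, Units.inv_mul, mul_one]⟩

include hj haug hj0 in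
/-- A function vanishing on the zero section has expansion without constant term. -/
theorem coeff_zero_of_exp {U : X.Opens} (hU : IsAffineOpen U) {e : Γ(L, U)}
    {c : PowerSeries Γ(X, U)} (hc : Exp j F U e c) {x : X} (hx : x ∈ U)
    (h0 : j0.base x ∉ 𝒮.toQCAlg.spec.basicOpen F) : x ∉ X.basicOpen (PowerSeries.coeff 0 c) := by
  obtain ⟨g, p, k, hg, hg0, hF, hc⟩ := hc
  have hp : PowerSeries.coeff 0 c = p.coeff 0 := by
    have := congrArg PowerSeries.constantCoeff hc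
    rw [map_mul, map_pow, ← PowerSeries.coeff_zero_eq_constantCoeff_apply,
      ← PowerSeries.coeff_zero_eq_constantCoeff_apply, ← PowerSeries.coeff_zero_eq_constantCoeff_apply,
      Polynomial.coeff_coe, Polynomial.coeff_coe, hg0, one_pow, mul_one] at this
    exact this
  have hjg : j0.base x ∈ 𝒮.toQCAlg.spec.basicOpen (Φ j U e g) := by
    rw [mem_basicOpen_j0_iff j hj hU haug hj0 g hx, hg0, Scheme.basicOpen_one]
    exact hx
  rw [mem_basicOpen_iff_of_eq hF hjg, mem_basicOpen_j0_iff j hj hU haug hj0 p hx] at h0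
  rwa [hp]

/-- At a point of the line the expansion detects non-vanishing. -/
theorem exists_coeff_ne_iff {U : X.Opens} (hU : IsAffineOpen U) {e : Γ(L, U)}
    {c : PowerSeries Γ(X, U)} (hc : Exp j F U e c) {x : X} (hx : x ∈ U) {v : 𝒮.toQCAlg.spec}
    (hv : ∀ p : Γ(X, U)[X], v ∈ 𝒮.toQCAlg.spec.basicOpen (Φ j U e p) ↔
      ∃ n, p.coeff n ∉ (hU.primeIdealOf ⟨x, hx⟩).asIdeal) :
    v ∈ 𝒮.toQCAlg.spec.basicOpen F ↔ ∃ n, x ∈ X.basicOpen (PowerSeries.coeff n c) := by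
  obtain ⟨g, p, k, hg, hg0, hF, hc⟩ := hc
  let P := (hU.primeIdealOf ⟨x, hx⟩).asIdeal
  have hP : ∀ r : Γ(X, U), x ∈ X.basicOpen r ↔ r ∉ P := fun r => by
    conv_lhs => rw [show x = hU.fromSpec (hU.primeIdealOf ⟨x, hx⟩) from (hU.fromSpec_primeIdealOf ⟨x, hx⟩).symm]
    change hU.primeIdealOf ⟨x, hx⟩ ∈ hU.fromSpec ⁻¹ᵁ X.basicOpen r ↔ _
    rw [hU.fromSpec_preimage_basicOpen]
    rfl
  have hgv : v ∈ 𝒮.toQCAlg.spec.basicOpen (Φ j U e g) :=
    (hv g).2 ⟨0, by rw [hg0]; exact (Ideal.ne_top_iff_one _).1 (hU.primeIdealOf ⟨x, hx⟩).2.ne_top⟩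
  rw [mem_basicOpen_iff_of_eq hF hgv, hv]
  simp only [hP]
  let ρ := PowerSeries.map (Ideal.Quotient.mk P)
  have e1 : ρ c * ρ (g : PowerSeries Γ(X, U)) ^ k = ρ (p : PowerSeries Γ(X, U)) := by rw [← map_pow, ← map_mul, hc]
  have hu : IsUnit (ρ (g : PowerSeries Γ(X, U)) ^ k) := ((isUnit_coe hg0).map ρ).pow k
  have z1 : ∀ q : PowerSeries Γ(X, U), ρ q = 0 ↔ ∀ n, PowerSeries.coeff n q ∈ P := fun q => by
    simp [PowerSeries.ext_iff, ρ, Ideal.Quotient.eq_zero_iff_mem]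
  rw [← not_iff_not, not_exists, not_exists]
  simp only [not_not]
  refine Iff.trans ?_ (z1 c)
  rw [← hu.mul_left_eq_zero, e1, z1]
  simp only [Polynomial.coeff_coe]
  exact Iff.rfl

end Groth.Agent.EGA2Cone
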