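import Groth.Agent.EGA2Cone.Contr
import Groth.Agent.SymAlg.AmpleR

/-!
# A relatively ample module gives a contraction of the zero section
-/

set_option autoImplicit false
set_option backward.isDefEq.respectTransparency false
set_option linter.style.haveILetI false

universe u

open CategoryTheory CategoryTheory.Limits AlgebraicGeometry TopologicalSpace Opposite
open Groth.Agent.QC (res resO res_res res_self res_smul resO_resO resO_self)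

noncomputable section

namespace Groth.Agent.EGA2Cone

open Groth.Agent
open TMul (IsGen pw)
open Groth.Agent.SymAlg (strL jL evalL resL theta theta_res theta_smul theta_pw)

variable {X : Scheme.{u}} {L : X.Modules} {𝒮 : RelProj.QCGrAlg X} {aug : 𝒮.toQCAlg ⟶ RelSpec.QCAlg.unit X}
  {j0 : X ⟶ 𝒮.toQCAlg.spec} (hj0 : RelCone.IsVertex 𝒮 aug j0) {Y : Scheme.{u}} (p : X ⟶ Y)

include hj0 in
lemma j0_comp : j0 ≫ 𝒮.toQCAlg.π ≫ p = p := by rw [← Category.assoc, hj0.comp_π, Category.id_comp]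

variable (hL : PicF.IsInvertible L) (hLq : Coh.IsQCoh L) {j : L ⟶ 𝒮.toModule}
  (hj : RelProj.IsGrSymAlg L 𝒮 j) (haug : RelCone.IsAugmentation 𝒮 aug)

/-- A function cutting out the preimage of an affine open on the complement of the zero section, given on
trivialising opens by a section times a positive power of the coordinate. -/
structure IsCut (j : L ⟶ 𝒮.toModule) (V0 : 𝒮.toQCAlg.spec.Opens) (Z : X.Opens)
    (a : Γ(𝒮.toQCAlg.spec, 𝒮.toQCAlg.π ⁻¹ᵁ Z)) (O : X.Opens) : Prop where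
  le : O ≤ Z
  affine : IsAffineOpen O
  basicOpen_eq : 𝒮.toQCAlg.spec.basicOpen a = 𝒮.toQCAlg.π ⁻¹ᵁ O ⊓ V0
  local_eq : ∀ (V : X.Opens) (_ : IsAffineOpen V) (h : V ≤ Z) (e : Γ(L, V)) (_ : IsGen e),
    ∃ (n : ℕ) (c : Γ(X, V)), X.basicOpen c = O ⊓ V ∧
      resO _ (𝒮.toQCAlg.π.preimage_mono h) a = Φ j V e (Polynomial.C c * Polynomial.X ^ (n + 1))

include hj0 hL hLq hj haug in
theorem exists_isCut (hamp : RelAmple.IsRelAmple p L) (V0 : 𝒮.toQCAlg.spec.Opens)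
    (hV0 : (V0 : Set 𝒮.toQCAlg.spec) = (Set.range j0.base)ᶜ) {U : Y.Opens} (hU : IsAffineOpen U) {x : X}
    (hx : p x ∈ U) :
    ∃ (a : Γ(𝒮.toQCAlg.spec, 𝒮.toQCAlg.π ⁻¹ᵁ (p ⁻¹ᵁ U))) (O : X.Opens),
      x ∈ O ∧ IsCut j V0 (p ⁻¹ᵁ U) a O ∧
        rj p (𝒮.toQCAlg.π ≫ p) j0 (j0_comp hj0 p) U a = 0 := by
  let Z := p ⁻¹ᵁ U
  obtain ⟨-, -, hpt⟩ := hamp.2 ⟨U, hU⟩
  obtain ⟨n, s₀, hxs, hOaff⟩ := hpt ⟨x, hx⟩
  obtain ⟨i⟩ := TMul.nonempty_restrictPowIso Z.ι L (n + 1)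
  let s := s₀ ≫ i.hom
  have hgl : CohB1.genLocus _ s = CohB1.genLocus _ s₀ := TMul.genLocus_comp s₀ i.hom
  rw [← hgl] at hxs hOaff
  have hZ : Z ≤ Z.ι ''ᵁ ⊤ := fun y hy => ⟨⟨y, hy⟩, trivial, rfl⟩
  let t : Γ(CohB1.tensorPow L (n + 1), Z) := res _ hZ (TMul.val s ⊤)
  let O := Z.ι ''ᵁ CohB1.genLocus _ s
  have hO : ∀ y, y ∈ O ↔ ∃ (W : X.Opens) (h : W ≤ Z), y ∈ W ∧ IsGen (res _ h t) := by
    intro y
    constructor
    · rintro ⟨y', hy', rfl⟩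
      obtain ⟨W, hyW, hW⟩ := (TMul.mem_genLocus_iff s).mp hy'
      rw [TMul.isGen_restrict_iff] at hW
      refine ⟨Z.ι ''ᵁ W, Z.ι_image_le W, ⟨y', hyW, rfl⟩, ?_⟩
      rw [show res _ (Z.ι_image_le W) t = res _ (Z.ι.image_mono (le_top : W ≤ ⊤)) (TMul.val s ⊤) from
        res_res _ _ _ _]
      exact hW
    · rintro ⟨W, hWZ, hyW, hW⟩
      refine ⟨⟨y, hWZ hyW⟩, (TMul.mem_genLocus_iff s).mpr ⟨Z.ι ⁻¹ᵁ W, hyW, ?_⟩, rfl⟩
      rw [TMul.isGen_restrict_iff]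
      have hle : Z.ι ''ᵁ (Z.ι ⁻¹ᵁ W) ≤ W := by
        rw [Scheme.Hom.image_preimage_eq_opensRange_inf]; exact inf_le_right
      have := TMul.IsGen.res hW hle
      simp only [t, res_res] at this
      exact this
  have hOZ : O ≤ Z := Z.ι_image_le _
  have hloc : ∀ (V : X.Opens) (_ : IsAffineOpen V) (h : V ≤ Z) (e : Γ(L, V)) (_ : IsGen e),
      ∃ c : Γ(X, V), X.basicOpen c = O ⊓ V ∧
        resO _ (𝒮.toQCAlg.π.preimage_mono h) (toV 𝒮 Z (theta j (n + 1) Z t)) =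
          Φ j V e (Polynomial.C c * Polynomial.X ^ (n + 1)) := by
    intro V hV h e he
    have hpe := TMul.isGen_pw he (n + 1)
    obtain ⟨c, hc⟩ := (hpe V le_rfl).2 (res (CohB1.tensorPow L (n + 1)) h t)
    simp only [res_self] at hc
    refine ⟨c, Opens.ext (Set.ext fun y => ⟨fun hy => ?_, fun hy => ?_⟩), ?_⟩
    · refine ⟨(hO y).2 ⟨X.basicOpen c, (X.basicOpen_le c).trans h, hy, ?_⟩, X.basicOpen_le c hy⟩
      rw [← res_res (CohB1.tensorPow L (n + 1)) (X.basicOpen_le c) h t, ← hc, res_smul]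
      exact TMul.isGen_smul (hpe.res _) (RingedSpace.isUnit_res_basicOpen _ _)
    · obtain ⟨W, hWZ, hyW, hW⟩ := (hO y).1 hy.1
      have h1 := hW.res (inf_le_left : W ⊓ V ≤ W)
      rw [res_res, ← res_res (CohB1.tensorPow L (n + 1)) (inf_le_right : W ⊓ V ≤ V) h t, ← hc, res_smul] at h1
      have h2 := le_basicOpen_of_isGen_smul (hpe.res _) h1 ⟨hyW, hy.2⟩
      rw [Scheme.basicOpen_res] at h2
      exact h2.2
    · rw [← toV_res h, theta_res, ← hc, theta_smul, theta_pw, map_mul, map_pow, map_mul (Φ j V e),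
        map_pow (Φ j V e), Φ_C, Φ_X, toV_strL]
  refine ⟨toV 𝒮 Z (theta j (n + 1) Z t), O, ⟨⟨x, hx⟩, hxs, rfl⟩,
    ⟨hOZ, hOaff.image_of_isOpenImmersion Z.ι, ?_, fun V hV h e he => ?_⟩, ?_⟩
  · refine Opens.ext (Set.ext fun v => ?_)
    by_cases hvZ : 𝒮.toQCAlg.π.base v ∈ Z
    · obtain ⟨V, hV, e, hxV, hVZ, he⟩ := Groth.Agent.SymAlg.exists_triv hL hvZ
      obtain ⟨c, hcO, hca⟩ := hloc V hV hVZ e he
      have hvV : v ∈ 𝒮.toQCAlg.π ⁻¹ᵁ V := hxV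
      have h1 : v ∈ 𝒮.toQCAlg.spec.basicOpen (toV 𝒮 Z (theta j (n + 1) Z t)) ↔
          v ∈ 𝒮.toQCAlg.spec.basicOpen (Φ j V e (Polynomial.C c * Polynomial.X ^ (n + 1))) := by
        rw [← hca, Scheme.basicOpen_res]
        exact ⟨fun hh => ⟨hvV, hh⟩, fun hh => hh.2⟩
      simp only [SetLike.mem_coe]
      rw [h1, map_mul, map_pow, Scheme.basicOpen_mul, Scheme.basicOpen_pow _ _ n.succ_pos, Φ_C,
        ← Scheme.preimage_basicOpen, Opens.mem_inf, Opens.mem_inf,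
        ← not_mem_range_j0_iff j hLq hj hV he haug hj0 hvV, hcO]
      refine and_congr ⟨fun hh => hh.1, fun hh => ⟨hh, hxV⟩⟩ ?_
      rw [← SetLike.mem_coe, hV0]
      rfl
    · exact ⟨fun hh => absurd (𝒮.toQCAlg.spec.basicOpen_le _ hh) hvZ, fun hh => absurd (hOZ hh.1) hvZ⟩
  · obtain ⟨c, hc, hc'⟩ := hloc V hV h e he
    exact ⟨n, c, hc, hc'⟩
  · refine TopCat.Sheaf.eq_of_locally_eq' X.sheaf
      (fun i : {q : Σ V : X.affineOpens, Γ(L, V.1) // q.1.1 ≤ Z ∧ IsGen q.2} => i.1.1.1) Z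
      (fun i => homOfLE i.2.1) (fun y hy => ?_) _ _ ?_
    · obtain ⟨V, hV, e, hyV, hVZ, he⟩ := Groth.Agent.SymAlg.exists_triv hL hy
      exact Opens.mem_iSup.2 ⟨⟨⟨⟨V, hV⟩, e⟩, hVZ, he⟩, hyV⟩
    rintro ⟨⟨⟨V, hV⟩, e⟩, hVZ, he⟩
    obtain ⟨c, -, hca⟩ := hloc V hV hVZ e he
    change resO X hVZ _ = resO X hVZ 0
    rw [map_zero]
    change (j0.appLE _ _ _ ≫ X.presheaf.map (homOfLE hVZ).op).hom (toV 𝒮 Z (theta j (n + 1) Z t)) = 0
    rw [Scheme.Hom.appLE_map, ← j0.map_appLE (le_j0 hj0 V) (homOfLE (𝒮.toQCAlg.π.preimage_mono hVZ)).op]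
    change (j0.appLE (𝒮.toQCAlg.π ⁻¹ᵁ V) V (le_j0 hj0 V)).hom (resO _ _ _) = 0
    rw [hca, j0_Φ j hj hV haug hj0]
    simp

section

variable {V : Scheme.{u}} {h : V ⟶ Y} {j0' : X ⟶ V} {hj' : j0' ≫ h = p}
  [QuasiCompact p] [QuasiSeparated p] [QuasiCompact h] [QuasiSeparated h]

omit [QuasiCompact p] [QuasiSeparated p] [QuasiCompact h] [QuasiSeparated h] in
lemma not_mem_basicOpen_of_rj {U : Y.Opens} {a : Γ(V, h ⁻¹ᵁ U)} (ha : rj p h j0' hj' U a = 0) (z : X) :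
    j0'.base z ∉ V.basicOpen a := fun hz => by
  have hzU : z ∈ p ⁻¹ᵁ U := by
    rw [← hj', Scheme.Hom.comp_preimage]
    exact V.basicOpen_le a hz
  have h1 : z ∈ X.basicOpen (rj p h j0' hj' U a) := by
    unfold rj
    rw [Scheme.basicOpen_appLE]
    exact ⟨hzU, hz⟩
  rw [ha, Scheme.basicOpen_zero] at h1
  exact h1

variable {ε : Y ⟶ (contrAlg p h j0' hj').spec} (hε : ε ≫ (contrAlg p h j0' hj').π = 𝟙 Y)
  (hεC : ∀ (U : Y.Opens) (b : contrSub p h j0' hj' U),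
    (ε.appLE ((contrAlg p h j0' hj').π ⁻¹ᵁ U) U
      (by rw [← Scheme.Hom.comp_preimage, hε]; exact le_rfl)).hom (toC p h j0' hj' U b) = b.1.2)

include hε in
lemma π_ε (y : Y) : (contrAlg p h j0' hj').π.base (ε.base y) = y := congr($(hε).base y)

include hε hεC in
lemma mem_basicOpen_ε_iff {U : Y.Opens} (b : contrSub p h j0' hj' U) (y : Y) :
    ε.base y ∈ (contrAlg p h j0' hj').spec.basicOpen (toC p h j0' hj' U b) ↔ y ∈ Y.basicOpen b.1.2 := by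
  rw [← hεC U b, Scheme.basicOpen_appLE]
  refine ⟨fun hy => ⟨?_, hy⟩, fun hy => hy.2⟩
  have := (contrAlg p h j0' hj').spec.basicOpen_le _ hy
  change (contrAlg p h j0' hj').π.base (ε.base y) ∈ U at this
  rwa [π_ε p hε] at this

end

include hj0 hL hLq hj haug in
/-- **the contraction of the zero section of a relatively ample module** -/
theorem exists_contraction_of_isRelAmple [IsSeparated p] [QuasiCompact p] (hamp : RelAmple.IsRelAmple p L)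
    (V0 : 𝒮.toQCAlg.spec.Opens) (hV0 : (V0 : Set 𝒮.toQCAlg.spec) = (Set.range j0.base)ᶜ) :
    ∃ (q : 𝒮.toQCAlg.spec ⟶ (contrAlg p (𝒮.toQCAlg.π ≫ p) j0 (j0_comp hj0 p)).spec)
      (ε : Y ⟶ (contrAlg p (𝒮.toQCAlg.π ≫ p) j0 (j0_comp hj0 p)).spec)
      (hq : q ≫ (contrAlg p (𝒮.toQCAlg.π ≫ p) j0 (j0_comp hj0 p)).π = 𝒮.toQCAlg.π ≫ p)
      (hε : ε ≫ (contrAlg p (𝒮.toQCAlg.π ≫ p) j0 (j0_comp hj0 p)).π = 𝟙 Y),
      j0 ≫ q = p ≫ ε ∧ IsOpenImmersion (V0.ι ≫ q) ∧ QuasiCompact (V0.ι ≫ q) ∧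
        Set.range (V0.ι ≫ q).base ∩ Set.range ε.base = ∅ ∧
        (∀ (U : Y.Opens) (b : contrSub p (𝒮.toQCAlg.π ≫ p) j0 (j0_comp hj0 p) U),
          (q.appLE ((contrAlg p (𝒮.toQCAlg.π ≫ p) j0 (j0_comp hj0 p)).π ⁻¹ᵁ U) ((𝒮.toQCAlg.π ≫ p) ⁻¹ᵁ U)
            (by rw [← Scheme.Hom.comp_preimage, hq])).hom (toC p _ j0 (j0_comp hj0 p) U b) = b.1.1) ∧
        ∀ (U : Y.Opens) (b : contrSub p (𝒮.toQCAlg.π ≫ p) j0 (j0_comp hj0 p) U),
          (ε.appLE ((contrAlg p (𝒮.toQCAlg.π ≫ p) j0 (j0_comp hj0 p)).π ⁻¹ᵁ U) U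
            (by rw [← Scheme.Hom.comp_preimage, hε]; exact le_rfl)).hom (toC p _ j0 (j0_comp hj0 p) U b) = b.1.2 := by
  let h := 𝒮.toQCAlg.π ≫ p
  let hj' := j0_comp hj0 p
  obtain ⟨q, ε, hq, hε, hjq, hqC, hεC⟩ := exists_contraction p h j0 hj'
  let C := (contrAlg p h j0 hj').spec
  let ι := Σ U : Y.affineOpens, {a : Γ(𝒮.toQCAlg.spec, h ⁻¹ᵁ U.1) //
    rj p h j0 hj' U.1 a = 0 ∧ IsAffineOpen (𝒮.toQCAlg.spec.basicOpen a)}
  let D : ι → C.Opens := fun i => C.basicOpen (toC p h j0 hj' i.1.1 (liftVan p h j0 hj' i.2.2.1))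
  have hpre : ∀ i, q ⁻¹ᵁ D i = 𝒮.toQCAlg.spec.basicOpen i.2.1 := fun i =>
    preimage_basicOpen_toC p h j0 hj' hq hqC _
  have hDV0 : ∀ i : ι, 𝒮.toQCAlg.spec.basicOpen i.2.1 ≤ V0 := fun i v hv => by
    rw [← SetLike.mem_coe, hV0]
    rintro ⟨z, rfl⟩
    exact not_mem_basicOpen_of_rj p i.2.2.1 z hv
  have hcut : ∀ {U : Y.Opens} (hU : IsAffineOpen U) (x : X), p x ∈ U →
      ∃ (i : ι) (O : X.Opens), x ∈ O ∧ 𝒮.toQCAlg.spec.basicOpen i.2.1 ≤ h ⁻¹ᵁ U ∧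
        𝒮.toQCAlg.spec.basicOpen i.2.1 = 𝒮.toQCAlg.π ⁻¹ᵁ O ⊓ V0 := by
    intro U hU x hx
    obtain ⟨a, O, hxO, hcut, hrj⟩ := exists_isCut hj0 p hL hLq hj haug hamp V0 hV0 hU hx
    refine ⟨⟨⟨U, hU⟩, a, hrj, ?_⟩, O, hxO, 𝒮.toQCAlg.spec.basicOpen_le a, hcut.basicOpen_eq⟩
    have h1 : 𝒮.toQCAlg.spec.basicOpen (resO _ (𝒮.toQCAlg.π.preimage_mono hcut.le) a) =
        𝒮.toQCAlg.spec.basicOpen a := by
      rw [Scheme.basicOpen_res, inf_eq_right, hcut.basicOpen_eq]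
      exact inf_le_left
    rw [← h1]
    exact (hcut.affine.preimage 𝒮.toQCAlg.π).basicOpen _
  let U₀ : C.Opens := ⨆ i, D i
  have hqU₀ : q ⁻¹ᵁ U₀ = V0 := by
    rw [Scheme.Hom.preimage_iSup]
    simp only [hpre]
    refine le_antisymm (iSup_le hDV0) fun v hv => ?_
    obtain ⟨U, hU, hxU, -⟩ := exists_isAffineOpen_mem_and_subset
      (x := p (𝒮.toQCAlg.π.base v)) (U := (⊤ : Y.Opens)) trivial
    obtain ⟨i, O, hxO, -, hi⟩ := hcut hU _ hxU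
    exact Opens.mem_iSup.2 ⟨i, by rw [hi]; exact ⟨hxO, hv⟩⟩
  haveI hiso : IsIso (q ∣_ U₀) := by
    change MorphismProperty.isomorphisms Scheme.{u} (q ∣_ U₀)
    refine IsZariskiLocalAtTarget.of_iSup_eq_top (fun i => U₀.ι ⁻¹ᵁ D i) ?_ fun i => ?_
    · rw [← Scheme.Hom.preimage_iSup]
      exact Scheme.Opens.ι_preimage_self U₀
    · rw [MorphismProperty.arrow_mk_iso_iff (MorphismProperty.isomorphisms Scheme.{u})
        (morphismRestrictRestrict q U₀ _ ≪≫ morphismRestrictEq q (show U₀.ι ''ᵁ (U₀.ι ⁻¹ᵁ D i) = D i by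
          rw [Scheme.Hom.image_preimage_eq_opensRange_inf, Scheme.Opens.opensRange_ι,
            inf_eq_right.2 (le_iSup D i)]))]
      exact isIso_restrict p h j0 hj' hq hqC i.1.2 i.2.2.1 i.2.2.2
  have hfac : V0.ι ≫ q = (Scheme.isoOfEq _ hqU₀).inv ≫ (q ∣_ U₀) ≫ U₀.ι := by
    rw [morphismRestrict_ι, Scheme.isoOfEq_inv_ι_assoc]
  have hoi : IsOpenImmersion (V0.ι ≫ q) := by rw [hfac]; infer_instance
  haveI : QuasiCompact (V0.ι ≫ h) := by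
    rw [quasiCompact_iff_forall_isAffineOpen]
    intro U hU
    rw [V0.ι.isOpenEmbedding.isInducing.isCompact_iff]
    have hcpt := (p.isCompact_preimage hU.isCompact)
    choose i O hxO hiU hiO using fun x : (p ⁻¹ᵁ U : X.Opens) => hcut hU x.1 x.2
    obtain ⟨s, hs⟩ := hcpt.elim_finite_subcover (fun x => (O x : Set X)) (fun x => (O x).2)
      fun x hx => Set.mem_iUnion.2 ⟨⟨x, hx⟩, hxO _⟩
    have heq : V0.ι '' ((V0.ι ≫ h) ⁻¹ᵁ U : Set (V0 : Scheme.{u})) =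
        ⋃ x ∈ s, ((𝒮.toQCAlg.spec.basicOpen (i x).2.1 : 𝒮.toQCAlg.spec.Opens) : Set 𝒮.toQCAlg.spec) := by
      ext v
      simp only [Set.mem_iUnion, exists_prop]
      constructor
      · rintro ⟨w, hw, rfl⟩
        obtain ⟨x, hxs, hx⟩ := Set.mem_iUnion₂.1 (hs (show 𝒮.toQCAlg.π.base (V0.ι.base w) ∈ p ⁻¹ᵁ U from hw))
        refine ⟨x, hxs, ?_⟩
        rw [SetLike.mem_coe, hiO]
        exact ⟨hx, w.2⟩
      · rintro ⟨x, -, hv⟩
        exact ⟨⟨v, hDV0 _ hv⟩, hiU x hv, rfl⟩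
    rw [heq]
    exact s.finite_toSet.isCompact_biUnion fun x _ =>
      (i x).2.2.2.isCompact
  have hqc : QuasiCompact (V0.ι ≫ q) := by
    haveI : QuasiCompact ((V0.ι ≫ q) ≫ (contrAlg p h j0 hj').π) := by rw [Category.assoc, hq]; infer_instance
    exact QuasiCompact.of_comp _ (contrAlg p h j0 hj').π
  refine ⟨q, ε, hq, hε, hjq, hoi, hqc, ?_, hqC, hεC⟩
  refine Set.eq_empty_iff_forall_notMem.2 ?_
  rintro _ ⟨⟨w, rfl⟩, y, hy⟩
  have hw : (V0.ι ≫ q).base w ∈ U₀ := by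
    show w ∈ V0.ι ⁻¹ᵁ (q ⁻¹ᵁ U₀)
    rw [hqU₀]
    exact w.2
  obtain ⟨i, hi⟩ := Opens.mem_iSup.1 hw
  rw [← hy, mem_basicOpen_ε_iff p hε hεC, Scheme.basicOpen_zero] at hi
  exact hi

end Groth.Agent.EGA2Cone
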