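import Mathlib
import Groth.Prelude.Def_Pi1

/-!
# Rings of functions of normal locally integral schemes
-/

set_option autoImplicit false
set_option backward.isDefEq.respectTransparency false
set_option backward.isDefEq.respectTransparency.types false

universe u

open AlgebraicGeometry CategoryTheory TopologicalSpace Opposite

noncomputable section

namespace Groth.Agent.EGA2Cone

variable {V : Scheme.{u}} {W : V.Opens}

/-- Locally, a function on a scheme with integral neighbourhoods has zero or nowhere-zero germs. -/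
theorem exists_clopen_germ (hint : ∀ x ∈ W, ∃ N : V.Opens, x ∈ N ∧ N ≤ W ∧ IsIntegral (N : Scheme.{u}))
    (a : Γ(V, W)) :
    ∃ e : Γ(V, W), ∀ (x : V) (hx : x ∈ W),
      (V.presheaf.germ W x hx a = 0 → V.presheaf.germ W x hx e = 0) ∧
      (V.presheaf.germ W x hx a ≠ 0 → V.presheaf.germ W x hx e = 1) := by
  classical
  let O : Set V := {x | ∃ hx : x ∈ W, V.presheaf.germ W x hx a = 0}
  let O' : Set V := {x | ∃ hx : x ∈ W, V.presheaf.germ W x hx a ≠ 0}
  have hO : IsOpen O := isOpen_iff_forall_mem_open.2 fun x ⟨hx, h⟩ => by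
    obtain ⟨N, hxN, i₁, i₂, he⟩ := V.presheaf.germ_eq x hx hx a 0 (h.trans (map_zero _).symm)
    refine ⟨N, fun y hy => ⟨i₁.le hy, ?_⟩, N.2, hxN⟩
    have := congrArg (V.presheaf.germ N y hy).hom he
    rw [V.presheaf.germ_res_apply, map_zero, map_zero] at this
    exact this
  have hO' : IsOpen O' := isOpen_iff_forall_mem_open.2 fun x ⟨hx, h⟩ => by
    obtain ⟨N, hxN, hNW, hN⟩ := hint x hx
    refine ⟨N, fun y hy => ⟨hNW hy, fun hy0 => h ?_⟩, N.2, hxN⟩
    have e1 : ∀ (t : N), N.ι.stalkMap t (V.presheaf.germ W t.1 (hNW t.2) a) =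
        (N : Scheme.{u}).presheaf.germ (N.ι ⁻¹ᵁ W) t (hNW t.2) (N.ι.app W a) := fun t =>
      Scheme.Hom.germ_stalkMap_apply N.ι W t (hNW t.2) a
    haveI : Nonempty (N.ι ⁻¹ᵁ W : (N : Scheme.{u}).Opens) := ⟨⟨⟨x, hxN⟩, hNW hxN⟩⟩
    have h2 : N.ι.app W a = 0 := by
      refine germ_injective_of_isIntegral (N : Scheme.{u}) (⟨y, hy⟩ : N) (U := N.ι ⁻¹ᵁ W) (hNW hy) ?_
      rw [map_zero]
      exact (e1 ⟨y, hy⟩).symm.trans ((congrArg (N.ι.stalkMap ⟨y, hy⟩).hom hy0).trans (map_zero _))
    have h3 := e1 ⟨x, hxN⟩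
    rw [h2, map_zero] at h3
    exact (map_eq_zero_iff (N.ι.stalkMap ⟨x, hxN⟩).hom (ConcreteCategory.bijective_of_isIso (N.ι.stalkMap ⟨x, hxN⟩)).1).1 h3
  let U : Bool → V.Opens := fun b => Bool.rec ⟨O', hO'⟩ ⟨O, hO⟩ b
  let s : ∀ b, Γ(V, U b) := fun b => Bool.rec (motive := fun b => Γ(V, U b)) 1 0 b
  have hU : ∀ b, U b ≤ W := fun b => by cases b <;> exact fun x hx => hx.1
  have hcomp : TopCat.Presheaf.IsCompatible V.sheaf.presheaf U s := fun b c => by
    cases b <;> cases c
    · rfl
    · refine TopCat.Presheaf.section_ext V.sheaf _ _ _ fun x hx => ?_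
      exact absurd hx.2.2 hx.1.2
    · refine TopCat.Presheaf.section_ext V.sheaf _ _ _ fun x hx => ?_
      exact absurd hx.1.2 hx.2.2
    · rfl
  obtain ⟨e, he, -⟩ := V.sheaf.existsUnique_gluing' U W (fun b => homOfLE (hU b))
    (fun x hx => by
      by_cases h : V.presheaf.germ W x hx a = 0
      · exact Opens.mem_iSup.2 ⟨true, hx, h⟩
      · exact Opens.mem_iSup.2 ⟨false, hx, h⟩) s hcomp
  refine ⟨e, fun x hx => ⟨fun h => ?_, fun h => ?_⟩⟩
  · have := congrArg (V.presheaf.germ (U true) x ⟨hx, h⟩).hom (he true)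
    erw [V.presheaf.germ_res_apply] at this
    exact this.trans (map_zero _)
  · have := congrArg (V.presheaf.germ (U false) x ⟨hx, h⟩).hom (he false)
    erw [V.presheaf.germ_res_apply] at this
    exact this.trans (map_one _)

theorem term_div {K : Type*} [Field K] (B Wv Dv Cv Av : K) (hB : B ≠ 0) (i k : ℕ) :
    B ^ (i + 1 + k) * (Wv ^ (k + 1) * (Dv ^ k * Cv) * ((Wv * Dv * Av) ^ i / B ^ i)) =
      Wv ^ (i + 1 + k) * (Dv ^ k * Cv * (Dv * Av) ^ i * B ^ (k + 1)) := by
  have h : B ^ i ≠ 0 := pow_ne_zero _ hB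
  rw [mul_div_assoc', mul_div_assoc', div_eq_iff h]
  ring

set_option maxHeartbeats 1000000 in
theorem isDomain_integrallyClosed_localization (hn : ∀ x ∈ W, IsDomain (V.presheaf.stalk x) ∧ IsIntegrallyClosed (V.presheaf.stalk x))
    (hint : ∀ x ∈ W, ∃ N : V.Opens, x ∈ N ∧ N ≤ W ∧ IsIntegral (N : Scheme.{u}))
    (P : Ideal Γ(V, W)) [P.IsPrime] :
    IsDomain (Localization.AtPrime P) ∧ IsIntegrallyClosed (Localization.AtPrime P) := by
  classical
  let S := Localization.AtPrime P
  let al : Γ(V, W) →+* S := algebraMap _ _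
  have hgext : ∀ u w : Γ(V, W), (∀ (x : V) (hx : x ∈ W), V.presheaf.germ W x hx u = V.presheaf.germ W x hx w) → u = w :=
    fun u w h => TopCat.Presheaf.section_ext V.sheaf _ _ _ h
  have hunit : ∀ e : Γ(V, W), e ∉ P → IsUnit (al e) := fun e he =>
    IsLocalization.map_units S (⟨e, he⟩ : P.primeCompl)
  have hzero : ∀ a b : Γ(V, W), a * b = 0 → al a = 0 ∨ al b = 0 := by
    intro a b hab
    obtain ⟨e, he⟩ := exists_clopen_germ hint a
    have h1 : (1 - e) * a = 0 := hgext _ _ fun x hx => by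
      rw [map_mul, map_sub, map_one, map_zero]
      by_cases h : V.presheaf.germ W x hx a = 0
      · rw [h, mul_zero]
      · rw [(he x hx).2 h, sub_self, zero_mul]
    have h2 : e * b = 0 := hgext _ _ fun x hx => by
      rw [map_mul, map_zero]
      by_cases h : V.presheaf.germ W x hx a = 0
      · rw [(he x hx).1 h, zero_mul]
      · haveI := (hn x hx).1
        have := congrArg (V.presheaf.germ W x hx).hom hab
        rw [map_mul, map_zero] at this
        rw [(mul_eq_zero.1 this).resolve_left h, mul_zero]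
    by_cases heP : e ∈ P
    · refine Or.inl ((hunit (1 - e) fun h => ?_).mul_right_eq_zero.1 (by rw [← map_mul, h1, map_zero]))
      exact P.ne_top_iff_one.1 ‹P.IsPrime›.ne_top (by simpa using P.add_mem h heP)
    · exact Or.inr ((hunit e heP).mul_right_eq_zero.1 (by rw [← map_mul, h2, map_zero]))
  haveI hdom : IsDomain S := by
    haveI : Nontrivial S := IsLocalization.AtPrime.nontrivial S P
    haveI : NoZeroDivisors S := ⟨fun {u v} huv => ?_⟩
    exact NoZeroDivisors.to_isDomain S
    obtain ⟨a, s, rfl⟩ := IsLocalization.exists_mk'_eq P.primeCompl u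
    obtain ⟨b, t, rfl⟩ := IsLocalization.exists_mk'_eq P.primeCompl v
    rw [← IsLocalization.mk'_mul, IsLocalization.mk'_eq_zero_iff] at huv
    obtain ⟨w, hw⟩ := huv
    rcases hzero ((w : Γ(V, W)) * a) b (by rw [mul_assoc]; exact hw) with h | h
    · left
      rw [map_mul] at h
      rw [IsLocalization.mk'_eq_mul_mk'_one, (hunit _ w.2).mul_right_eq_zero.1 h, zero_mul]
    · right
      rw [IsLocalization.mk'_eq_mul_mk'_one, show algebraMap _ S b = 0 from h, zero_mul]
  refine ⟨hdom, (isIntegrallyClosed_iff (FractionRing S)).2 fun {f} hf => ?_⟩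
  let af : Γ(V, W) →+* FractionRing S := (algebraMap S _).comp al
  obtain ⟨a, b, hb, hab⟩ : ∃ a b : Γ(V, W), af b ≠ 0 ∧ f * af b = af a := by
    obtain ⟨u, v, hv, huv⟩ := IsFractionRing.div_surjective (A := S) f
    obtain ⟨a, s, rfl⟩ := IsLocalization.exists_mk'_eq P.primeCompl u
    obtain ⟨b, t, rfl⟩ := IsLocalization.exists_mk'_eq P.primeCompl v
    refine ⟨a * t, b * s, ?_, ?_⟩
    · intro h0
      have h0' : al (b * s) = 0 := IsFractionRing.injective S (FractionRing S) (h0.trans (map_zero _).symm)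
      rw [map_mul] at h0'
      refine nonZeroDivisors.ne_zero hv ?_
      rw [IsLocalization.mk'_eq_mul_mk'_one, show algebraMap _ S b = 0 from (hunit _ s.2).mul_left_eq_zero.1 h0', zero_mul]
    · have hne : algebraMap S (FractionRing S) (IsLocalization.mk' S b t) ≠ 0 :=
        (map_ne_zero_iff _ (IsFractionRing.injective _ _)).2 (nonZeroDivisors.ne_zero hv)
      rw [← huv, div_mul_eq_mul_div, div_eq_iff hne]
      simp only [af, RingHom.comp_apply, ← map_mul]
      congr 1
      rw [map_mul, map_mul]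
      linear_combination (al (b : Γ(V, W))) * IsLocalization.mk'_spec S a s - (al (a : Γ(V, W))) * IsLocalization.mk'_spec S b t
  obtain ⟨Q, hQ, hQ0⟩ := hf
  obtain ⟨⟨d, hd⟩, hdQ⟩ := IsLocalization.exist_integer_multiples_of_finset P.primeCompl
    ((Finset.range Q.natDegree).image fun i => Q.coeff i)
  choose c hc using fun i : Fin Q.natDegree => hdQ (Q.coeff i) (Finset.mem_image.2 ⟨i, Finset.mem_range.2 i.2, rfl⟩)
  let n := Q.natDegree
  let Φ : Γ(V, W) := (d * a) ^ n + ∑ i : Fin n, (d ^ (n - i - 1) * c i) * (d * a) ^ (i : ℕ) * b ^ (n - i)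
  have hΦ : al Φ = 0 := by
    refine IsFractionRing.injective S (FractionRing S) ?_
    rw [map_zero]
    change af Φ = 0
    have h0 := hQ0
    rw [Polynomial.eval₂_eq_sum_range, Finset.sum_range_succ, hQ.coeff_natDegree, map_one, one_mul] at h0
    have key : af Φ = (af d * af b) ^ n *
        (∑ i ∈ Finset.range n, algebraMap S (FractionRing S) (Q.coeff i) * f ^ i + f ^ n) := by
      simp only [Φ, map_add, map_sum, map_mul, map_pow, mul_add, Finset.mul_sum]
      rw [Finset.sum_range, add_comm]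
      congr 1
      · refine Finset.sum_congr rfl fun i _ => ?_
        have hci : af (c i) = af d * algebraMap S (FractionRing S) (Q.coeff i) := by
          have h3 : algebraMap S (FractionRing S) (al (c i)) =
              algebraMap S (FractionRing S) ((d : Γ(V, W)) • Q.coeff i) := congrArg _ (hc i)
          rw [Algebra.smul_def, map_mul] at h3
          exact h3
        obtain ⟨k, hk⟩ : ∃ k, n = (i : ℕ) + 1 + k := ⟨n - i - 1, by omega⟩
        have hpow : (af d * af b) ^ n = (af d * af b) ^ ((i : ℕ) + 1 + k) := by rw [← hk]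
        rw [hci, ← hab, show n - (i : ℕ) - 1 = k by omega, show n - (i : ℕ) = k + 1 by omega, hpow]
        ring
      · rw [← hab]; ring
    rw [key]
    exact mul_eq_zero_of_right _ h0
  obtain ⟨⟨w, hw⟩, hwΦ⟩ := (IsLocalization.map_eq_zero_iff P.primeCompl S Φ).1 hΦ
  obtain ⟨e, he⟩ := exists_clopen_germ hint b
  have heP : e ∉ P := fun heP => hb (by
    have h1 : (1 - e) * b = 0 := hgext _ _ fun x hx => by
      rw [map_mul, map_sub, map_one, map_zero]
      by_cases h : V.presheaf.germ W x hx b = 0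
      · rw [h, mul_zero]
      · rw [(he x hx).2 h, sub_self, zero_mul]
    have h2 : al b = 0 := (hunit (1 - e) fun h => P.ne_top_iff_one.1 ‹P.IsPrime›.ne_top
      (by simpa using P.add_mem h heP)).mul_right_eq_zero.1 (by rw [← map_mul, h1, map_zero])
    simp [af, h2])
  have hloc : ∀ (x : V) (hx : x ∈ W), V.presheaf.germ W x hx b ≠ 0 →
      ∃ t : V.presheaf.stalk x, V.presheaf.germ W x hx (w * d * a) = t * V.presheaf.germ W x hx b := by
    intro x hx hbx
    haveI := (hn x hx).1
    haveI := (hn x hx).2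
    let g : Γ(V, W) →+* V.presheaf.stalk x := (V.presheaf.germ W x hx).hom
    let K := FractionRing (V.presheaf.stalk x)
    let j : V.presheaf.stalk x →+* K := algebraMap _ _
    have hbK : j (g b) ≠ 0 := (map_ne_zero_iff _ (IsFractionRing.injective _ _)).2 hbx
    let r : K := j (g (w * d * a)) / j (g b)
    have hr : IsIntegral (V.presheaf.stalk x) r := by
      refine ⟨Polynomial.X ^ n + ∑ i : Fin n, Polynomial.C (g (w ^ (n - i) * (d ^ (n - i - 1) * c i))) * Polynomial.X ^ (i : ℕ), ?_, ?_⟩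
      · refine Polynomial.monic_X_pow_add ?_
        refine (Polynomial.degree_sum_le _ _).trans_lt ((Finset.sup_lt_iff (WithBot.bot_lt_coe n)).2 fun i _ => ?_)
        exact (Polynomial.degree_C_mul_X_pow_le _ _).trans_lt (WithBot.coe_lt_coe.2 i.2)
      · simp only [Polynomial.eval₂_add, Polynomial.eval₂_X_pow, Polynomial.eval₂_finsetSum, Polynomial.eval₂_mul,
          Polynomial.eval₂_C]
        have h0 : j (g (w ^ n * Φ)) = 0 := by
          rcases Nat.eq_zero_or_pos n with hn0 | hn0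
          · have hΦ1 : Φ = 1 := by
              haveI : IsEmpty (Fin n) := ⟨fun i => absurd i.2 (by omega)⟩
              simp only [Φ, Finset.univ_eq_empty, Finset.sum_empty, add_zero]
              rw [hn0, pow_zero]
            rw [hΦ1, mul_one] at hwΦ
            exact absurd (show w ∈ P by simp only at hwΦ; rw [hwΦ]; exact P.zero_mem) hw
          · obtain ⟨k, hk⟩ : ∃ k, n = k + 1 := ⟨n - 1, by omega⟩
            rw [hk, pow_succ, mul_assoc, show w * Φ = 0 from hwΦ, mul_zero, map_zero, map_zero]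
        refine (mul_eq_zero.1 (?_ : j (g b) ^ n * _ = 0)).resolve_left (pow_ne_zero _ hbK)
        rw [← h0]
        simp only [Φ, map_add, map_sum, map_mul, map_pow, mul_add, Finset.mul_sum, r]
        congr 1
        · rw [div_pow, mul_div_cancel₀ _ (pow_ne_zero _ hbK)]; ring
        · refine Finset.sum_congr rfl fun i _ => ?_
          obtain ⟨k, hk⟩ : ∃ k, n = (i : ℕ) + 1 + k := ⟨n - i - 1, by omega⟩
          have e1 : ∀ z : K, z ^ n = z ^ ((i : ℕ) + 1 + k) := fun z => by rw [← hk]
          rw [show n - (i : ℕ) - 1 = k by omega, show n - (i : ℕ) = k + 1 by omega, div_pow]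
          simp only [e1]
          exact term_div (j (g b)) (j (g w)) (j (g d)) (j (g (c i))) (j (g a)) hbK i k
    obtain ⟨t, ht⟩ := IsIntegrallyClosed.isIntegral_iff.1 hr
    refine ⟨t, IsFractionRing.injective (V.presheaf.stalk x) K ?_⟩
    rw [map_mul (algebraMap _ K) t, ht]
    exact (div_mul_cancel₀ _ hbK).symm
  have hdiv : ∀ p : W, ∃ (N : V.Opens) (hNW : N ≤ W) (s : Γ(V, N)), p.1 ∈ N ∧
      ∀ (y : V) (hy : y ∈ N), V.presheaf.germ W y (hNW hy) (e * (w * d * a)) =
        V.presheaf.germ N y hy s * V.presheaf.germ W y (hNW hy) b ∧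
        (V.presheaf.germ W y (hNW hy) b = 0 → V.presheaf.germ N y hy s = 0) := by
    intro p
    by_cases hbp : V.presheaf.germ W p.1 p.2 b = 0
    · obtain ⟨N, hpN, i₁, i₂, hN⟩ := V.presheaf.germ_eq p.1 p.2 p.2 e 0
        (((he p.1 p.2).1 hbp).trans (map_zero (V.presheaf.germ W p.1 p.2).hom).symm)
      refine ⟨N, i₁.le, 0, hpN, fun y hy => ⟨?_, fun _ => map_zero _⟩⟩
      have h1 : V.presheaf.germ W y (i₁.le hy) e = 0 := by
        have := congrArg (V.presheaf.germ N y hy).hom hN
        rw [V.presheaf.germ_res_apply, map_zero, map_zero] at this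
        exact this
      rw [map_mul, h1, map_zero, zero_mul, zero_mul]
    · obtain ⟨t, ht⟩ := hloc p.1 p.2 hbp
      obtain ⟨N₁, hpN₁, s, hs⟩ := V.presheaf.germ_exist t
      have hL : V.presheaf.germ W p.1 p.2 (e * (w * d * a)) =
          V.presheaf.germ (N₁ ⊓ W) p.1 ⟨hpN₁, p.2⟩
            (V.presheaf.map (homOfLE inf_le_left).op s * V.presheaf.map (homOfLE inf_le_right).op b) := by
        rw [map_mul, (he p.1 p.2).2 hbp, one_mul, map_mul (V.presheaf.germ (N₁ ⊓ W) p.1 _).hom]
        erw [V.presheaf.germ_res_apply, V.presheaf.germ_res_apply]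
        rw [hs, ht]
      obtain ⟨N₂, hpN₂, i₁, i₂, hN₂⟩ := V.presheaf.germ_eq p.1 (show p.1 ∈ W from p.2) (show p.1 ∈ N₁ ⊓ W from ⟨hpN₁, p.2⟩) _ _ hL
      obtain ⟨M, hpM, hMW, hMint⟩ := hint p.1 p.2
      obtain ⟨N₃, hpN₃, i₃, i₄, hN₃⟩ := V.presheaf.germ_eq p.1 p.2 p.2 e 1
        (((he p.1 p.2).2 hbp).trans (map_one (V.presheaf.germ W p.1 p.2).hom).symm)
      refine ⟨N₂ ⊓ N₃, inf_le_left.trans i₁.le, V.presheaf.map (homOfLE (inf_le_left.trans (i₂.le.trans inf_le_left))).op s,
        ⟨hpN₂, hpN₃⟩, fun y hy => ?_⟩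
      have h1 : V.presheaf.germ W y (i₁.le hy.1) e = 1 := by
        have := congrArg (V.presheaf.germ N₃ y hy.2).hom hN₃
        rw [V.presheaf.germ_res_apply, map_one, map_one] at this
        exact this
      refine ⟨?_, fun hb0 => ?_⟩
      · have := congrArg (V.presheaf.germ N₂ y hy.1).hom hN₂
        rw [V.presheaf.germ_res_apply, V.presheaf.germ_res_apply, map_mul (V.presheaf.germ (N₁ ⊓ W) y _).hom,
          V.presheaf.germ_res_apply, V.presheaf.germ_res_apply] at this
        rw [this, V.presheaf.germ_res_apply]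
      · haveI := (hn y (i₁.le hy.1)).1
        exact absurd ((he y (i₁.le hy.1)).1 hb0) (by rw [h1]; exact one_ne_zero)
  choose N hNW s hpN hs using hdiv
  obtain ⟨σ₀, hσ, -⟩ := V.sheaf.existsUnique_gluing' N W (fun p => homOfLE (hNW p))
    (fun x hx => Opens.mem_iSup.2 ⟨⟨x, hx⟩, hpN ⟨x, hx⟩⟩) s (fun p q => by
      refine TopCat.Presheaf.section_ext V.sheaf _ _ _ fun y hy => ?_
      change V.presheaf.germ _ y hy (V.presheaf.map _ (s p)) = V.presheaf.germ _ y hy (V.presheaf.map _ (s q))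
      rw [V.presheaf.germ_res_apply, V.presheaf.germ_res_apply]
      obtain ⟨hp1, hp2⟩ := hs p y hy.1
      obtain ⟨hq1, hq2⟩ := hs q y hy.2
      haveI := (hn y (hNW p hy.1)).1
      by_cases h0 : V.presheaf.germ W y (hNW p hy.1) b = 0
      · rw [hp2 h0, hq2 h0]
      · exact mul_right_cancel₀ h0 (hp1.symm.trans hq1))
  let σ : Γ(V, W) := σ₀
  have hdiveq : e * (w * d * a) = σ * b := hgext _ _ fun y hy => by
    have h1 := (hs ⟨y, hy⟩ y (hpN ⟨y, hy⟩)).1
    rw [map_mul (V.presheaf.germ W y hy).hom σ b]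
    refine h1.trans (congrArg (· * _) ?_)
    have := congrArg (V.presheaf.germ (N ⟨y, hy⟩) y (hpN ⟨y, hy⟩)).hom (hσ ⟨y, hy⟩)
    erw [V.presheaf.germ_res_apply] at this
    exact this.symm
  have hu : IsUnit (al (e * (w * d))) := by
    rw [map_mul, map_mul]; exact (hunit e heP).mul ((hunit w hw).mul (hunit d hd))
  refine ⟨↑hu.unit⁻¹ * al σ, mul_right_cancel₀ hb ?_⟩
  rw [hab]
  change algebraMap S (FractionRing S) (↑hu.unit⁻¹ * al σ) * algebraMap S (FractionRing S) (al b) =
    algebraMap S (FractionRing S) (al a)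
  rw [← map_mul]
  congr 1
  have h2 : al σ * al b = al (e * (w * d)) * al a := by
    rw [← map_mul, ← map_mul, ← hdiveq]; congr 1; ring
  rw [mul_assoc, h2, ← mul_assoc, IsUnit.val_inv_mul, one_mul]

end Groth.Agent.EGA2Cone
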