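import Groth.Agent.SymAlg.Inv
import Groth.Prelude.Def_RelSpec2
import Groth.Agent.RelSpecUP.Basic
import Groth.Agent.EGA2Cone.NormalSect
import Groth.Agent.NormSect.Basic

/-!
# Integrality and normality of line bundles and of spectra of direct image algebras
-/

set_option autoImplicit false
set_option backward.isDefEq.respectTransparency false
set_option backward.isDefEq.respectTransparency.types false
set_option linter.style.haveILetI false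

universe u

open AlgebraicGeometry CategoryTheory TopologicalSpace Opposite Polynomial

noncomputable section

namespace Groth.Agent.EGA2Cone

open Groth.Agent
open TMul (IsGen coeffEquiv)

lemma nonempty_of_nontrivial {C : Scheme.{u}} {W : C.Opens} (hW : IsAffineOpen W) [Nontrivial Γ(C, W)] :
    (W : Set C).Nonempty := by
  haveI : Nonempty (Spec Γ(C, W)) := inferInstanceAs (Nonempty (PrimeSpectrum Γ(C, W)))
  rw [← hW.range_fromSpec]
  exact Set.range_nonempty _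

lemma isPreirreducible_of_domain {C : Scheme.{u}} {W : C.Opens} (hW : IsAffineOpen W) [IsDomain Γ(C, W)] :
    IsPreirreducible (W : Set C) := by
  haveI : PreirreducibleSpace (Spec Γ(C, W)) := inferInstanceAs (PreirreducibleSpace (PrimeSpectrum Γ(C, W)))
  rw [← hW.range_fromSpec, ← Set.image_univ]
  exact PreirreducibleSpace.isPreirreducible_univ.image _ hW.fromSpec.continuous.continuousOn

/-- An affine scheme over an irreducible base with domains over small affine opens is integral. -/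
theorem isIntegral_of_affine_hom {C Y : Scheme.{u}} (π : C ⟶ Y) [IsAffineHom π] [IrreducibleSpace Y]
    (h : ∀ (y : Y) (O : Y.Opens), y ∈ O →
      ∃ U : Y.Opens, IsAffineOpen U ∧ y ∈ U ∧ U ≤ O ∧ IsDomain Γ(C, π ⁻¹ᵁ U)) : IsIntegral C := by
  obtain ⟨y₀⟩ := (inferInstance : Nonempty Y)
  obtain ⟨U₀, hU₀, -, -, hd₀⟩ := h y₀ ⊤ trivial
  haveI : Nonempty C := ⟨(nonempty_of_nontrivial (hU₀.preimage π)).some⟩
  haveI : ∀ c, _root_.IsReduced (C.presheaf.stalk c) := fun c => by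
    obtain ⟨U, hU, hcU, -, hd⟩ := h (π c) ⊤ trivial
    haveI := (hU.preimage π).isLocalization_stalk ⟨c, hcU⟩
    letI := C.presheaf.algebra_section_stalk (⟨c, hcU⟩ : (π ⁻¹ᵁ U : C.Opens))
    exact isReduced_localizationPreserves ((hU.preimage π).primeIdealOf ⟨c, hcU⟩).asIdeal.primeCompl _ inferInstance
  haveI : IsReduced C := isReduced_of_isReduced_stalk C
  haveI : PreirreducibleSpace C := ⟨fun O₁ O₂ hO₁ hO₂ ⟨c₁, _, hc₁⟩ ⟨c₂, _, hc₂⟩ => by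
    obtain ⟨U₁, hU₁, h1, -, hd₁⟩ := h (π c₁) ⊤ trivial
    obtain ⟨U₂, hU₂, h2, -, hd₂⟩ := h (π c₂) ⊤ trivial
    obtain ⟨y, hy⟩ := nonempty_preirreducible_inter U₁.2 U₂.2 ⟨_, h1⟩ ⟨_, h2⟩
    obtain ⟨U₃, hU₃, -, h3, hd₃⟩ := h y (U₁ ⊓ U₂) hy
    obtain ⟨c₃, hc₃⟩ := nonempty_of_nontrivial (hU₃.preimage π)
    obtain ⟨a, ha, ha₁, ha₃⟩ := isPreirreducible_of_domain (hU₁.preimage π) O₁ _ hO₁ (π ⁻¹ᵁ U₃).2
      ⟨c₁, h1, hc₁⟩ ⟨c₃, (h3 hc₃).1, hc₃⟩
    obtain ⟨b, hb, hb₂, hb₃⟩ := isPreirreducible_of_domain (hU₂.preimage π) O₂ _ hO₂ (π ⁻¹ᵁ U₃).2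
      ⟨c₂, h2, hc₂⟩ ⟨c₃, (h3 hc₃).2, hc₃⟩
    obtain ⟨d, -, hd⟩ := isPreirreducible_of_domain (hU₃.preimage π) O₁ O₂ hO₁ hO₂ ⟨a, ha₃, ha₁⟩ ⟨b, hb₃, hb₂⟩
    exact ⟨d, trivial, hd⟩⟩
  haveI : IrreducibleSpace C := ⟨inferInstance⟩
  exact isIntegral_of_irreducibleSpace_of_isReduced C

section line

variable {X : Scheme.{u}} {L : X.Modules} (hL : PicF.IsInvertible L) (hLq : Coh.IsQCoh L)
  {A : RelSpec.QCAlg X} {j : L ⟶ A.toModule} (hA : RelSpec.IsSymAlg L A j)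

include hL hLq hA in
theorem exists_chart_equiv (x : X) (O : X.Opens) (hx : x ∈ O) :
    ∃ U : X.Opens, IsAffineOpen U ∧ x ∈ U ∧ U ≤ O ∧ Nonempty (Γ(A.spec, A.π ⁻¹ᵁ U) ≃+* Γ(X, U)[X]) := by
  obtain ⟨U₁, e₁, hx₁, he₁⟩ := TMul.exists_isGen hL x
  obtain ⟨_, ⟨U, hU, rfl⟩, hxU, hle⟩ := X.isBasis_affineOpens.exists_subset_of_mem_open
    (show x ∈ (O ⊓ U₁ : X.Opens) from ⟨hx, hx₁⟩) (O ⊓ U₁).2
  have hle' : U ≤ O ⊓ U₁ := hle
  obtain ⟨γ, -, -⟩ := SymAlg.exists_affineIso hLq hA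
  let W : X.AffineZariskiSite := ⟨U, hU⟩
  have he := SymAlg.isGen_res (hle'.trans inf_le_right) he₁
  let b : Module.Basis PUnit.{u+1} Γ(X, U) Γ(L, U) :=
    (Module.Basis.singleton PUnit.{u+1} Γ(X, U)).map (coeffEquiv he le_rfl)
  exact ⟨U, hU, hxU, hle'.trans inf_le_left, ⟨((asIso A.gammaMap).app (op U)).commRingCatIsoToRingEquiv.trans
    ((γ.app (op W)).commRingCatIsoToRingEquiv.trans ((SymmetricAlgebra.equivMvPolynomial b).toRingEquiv.trans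
      (MvPolynomial.pUnitAlgEquiv Γ(X, U)).toRingEquiv))⟩⟩

include hL hLq hA in
theorem isIntegral_spec [IsIntegral X] : IsIntegral A.spec :=
  isIntegral_of_affine_hom A.π fun y O hy => by
    obtain ⟨U, hU, hyU, hUO, ⟨e⟩⟩ := exists_chart_equiv hL hLq hA y O hy
    haveI : Nonempty U := ⟨⟨y, hyU⟩⟩
    exact ⟨U, hU, hyU, hUO, e.toMulEquiv.isDomain Γ(X, U)[X]⟩

include hL hLq hA in
theorem locallyIntegral_normal_spec (hint : ∀ x : X, ∃ U : X.Opens, x ∈ U ∧ IsIntegral (U : Scheme.{u}))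
    (hn : Pi1.IsNormalScheme X) : (∀ v : A.spec, ∃ W : A.spec.Opens, v ∈ W ∧ IsIntegral (W : Scheme.{u})) ∧
      Pi1.IsNormalScheme A.spec := by
  have key : ∀ v : A.spec, ∃ W : A.spec.Opens, IsAffineOpen W ∧ v ∈ W ∧ IsDomain Γ(A.spec, W) ∧
      IsIntegrallyClosed Γ(A.spec, W) := fun v => by
    obtain ⟨N, hN, hNi⟩ := hint (A.π v)
    obtain ⟨U, hU, hxU, hUN, ⟨e⟩⟩ := exists_chart_equiv hL hLq hA (A.π v) N hN
    haveI : Nonempty (U : Scheme.{u}) := ⟨⟨_, hxU⟩⟩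
    haveI : IsIntegral (U : Scheme.{u}) := isIntegral_of_isOpenImmersion (X.homOfLE hUN)
    haveI : Nonempty (⊤ : (U : Scheme.{u}).Opens) := ⟨⟨⟨_, hxU⟩, trivial⟩⟩
    haveI : IsIntegrallyClosed Γ((U : Scheme.{u}), ⊤) := NormSect.isIntegrallyClosed_sections ⊤ fun z _ => by
      haveI : IsIntegrallyClosed (X.presheaf.stalk (U.ι z)) := (hn _).2
      exact IsIntegrallyClosed.of_equiv (asIso (U.ι.stalkMap z)).commRingCatIsoToRingEquiv
    let eU : Γ((U : Scheme.{u}), ⊤) ≃+* Γ(X, U) := U.topIso.commRingCatIsoToRingEquiv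
    haveI : IsDomain Γ(X, U) := eU.symm.toMulEquiv.isDomain _
    haveI : IsIntegrallyClosed Γ(X, U) := IsIntegrallyClosed.of_equiv eU
    exact ⟨A.π ⁻¹ᵁ U, hU.preimage A.π, hxU, e.toMulEquiv.isDomain _, IsIntegrallyClosed.of_equiv e.symm⟩
  refine ⟨fun v => ?_, fun v => ?_⟩
  · obtain ⟨W, hW, hv, hd, -⟩ := key v
    haveI : IsAffine (W : Scheme.{u}) := hW
    haveI : Nonempty (W : Scheme.{u}) := ⟨⟨v, hv⟩⟩
    haveI : IsDomain Γ((W : Scheme.{u}), ⊤) := W.topIso.commRingCatIsoToRingEquiv.toMulEquiv.isDomain _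
    exact ⟨W, hv, isIntegral_of_isAffine_of_isDomain _⟩
  · obtain ⟨W, hW, hv, hd, hic⟩ := key v
    haveI := hW.isLocalization_stalk ⟨v, hv⟩
    let P := (hW.primeIdealOf ⟨v, hv⟩).asIdeal
    letI := A.spec.presheaf.algebra_section_stalk ⟨v, hv⟩
    exact ⟨IsLocalization.isDomain_of_le_nonZeroDivisors _ P.primeCompl_le_nonZeroDivisors,
      isIntegrallyClosed_of_isLocalization _ P.primeCompl P.primeCompl_le_nonZeroDivisors⟩

end line

section dirIm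

variable {V Y : Scheme.{u}} (h : V ⟶ Y) [QuasiCompact h] [QuasiSeparated h]

theorem nonempty_equiv_dirIm (U : Y.Opens) :
    Nonempty (Γ((RelSpec.QCAlg.directImage h).spec, (RelSpec.QCAlg.directImage h).π ⁻¹ᵁ U) ≃+* Γ(V, h ⁻¹ᵁ U)) :=
  ⟨((asIso (RelSpec.QCAlg.directImage h).gammaMap).app (op U)).commRingCatIsoToRingEquiv⟩

theorem isIntegral_dirIm [IsIntegral V] [IrreducibleSpace Y]
    (hne : ∀ U : Y.Opens, (U : Set Y).Nonempty → ((h ⁻¹ᵁ U : V.Opens) : Set V).Nonempty) :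
    IsIntegral (RelSpec.QCAlg.directImage h).spec :=
  isIntegral_of_affine_hom _ fun y O hy => by
    obtain ⟨_, ⟨U, hU, rfl⟩, hyU, hle⟩ := Y.isBasis_affineOpens.exists_subset_of_mem_open hy O.2
    haveI : Nonempty (h ⁻¹ᵁ U : V.Opens) := (hne U ⟨y, hyU⟩).to_subtype
    obtain ⟨e⟩ := nonempty_equiv_dirIm h U
    exact ⟨U, hU, hyU, hle, e.toMulEquiv.isDomain _⟩

theorem normal_dirIm (hn : Pi1.IsNormalScheme V)
    (hint : ∀ v : V, ∃ N : V.Opens, v ∈ N ∧ IsIntegral (N : Scheme.{u})) :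
    Pi1.IsNormalScheme (RelSpec.QCAlg.directImage h).spec := fun c => by
  let C := (RelSpec.QCAlg.directImage h).spec
  let π := (RelSpec.QCAlg.directImage h).π
  obtain ⟨_, ⟨U, hU, rfl⟩, hcU, -⟩ := Y.isBasis_affineOpens.exists_subset_of_mem_open
    (show π c ∈ (⊤ : Y.Opens) from trivial) isOpen_univ
  obtain ⟨e⟩ := nonempty_equiv_dirIm h U
  have hW : IsAffineOpen (π ⁻¹ᵁ U) := hU.preimage π
  let c' : (π ⁻¹ᵁ U : C.Opens) := ⟨c, hcU⟩
  letI := C.presheaf.algebra_section_stalk c'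
  haveI := hW.isLocalization_stalk c'
  let P := (hW.primeIdealOf c').asIdeal
  let Q : Ideal Γ(V, h ⁻¹ᵁ U) := P.comap e.symm.toRingHom
  have hQ := isDomain_integrallyClosed_localization (W := h ⁻¹ᵁ U) (fun v _ => hn v) (fun v hv => by
    obtain ⟨N, hvN, hN⟩ := hint v
    haveI : Nonempty ((N ⊓ h ⁻¹ᵁ U : V.Opens) : Scheme.{u}) := ⟨⟨v, hvN, hv⟩⟩
    exact ⟨N ⊓ h ⁻¹ᵁ U, ⟨hvN, hv⟩, inf_le_right, isIntegral_of_isOpenImmersion (V.homOfLE inf_le_left)⟩) Q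
  let e' : Localization.AtPrime Q ≃+* C.presheaf.stalk c :=
    IsLocalization.ringEquivOfRingEquiv (M := Q.primeCompl) (T := P.primeCompl) (Localization.AtPrime Q)
      (C.presheaf.stalk c) e.symm (by
        ext x
        simp only [Submonoid.mem_map, Q]
        exact ⟨fun ⟨a, ha, hax⟩ => hax ▸ ha, fun hx => ⟨e x, by
          change e.symm (e x) ∉ P
          rwa [e.symm_apply_apply], e.symm_apply_apply x⟩⟩)
  haveI := hQ.2
  exact ⟨haveI := hQ.1; e'.symm.toMulEquiv.isDomain _, IsIntegrallyClosed.of_equiv e'⟩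

end dirIm

end Groth.Agent.EGA2Cone

namespace Groth.Agent.EGA2Cone

variable {X Y : Scheme.{u}} (f : X ⟶ Y)

theorem exists_mem_of_isIso_c (hf : IsIso f.c) (U : Y.Opens) (hU : (U : Set Y).Nonempty) : ∃ x, f x ∈ U := by
  by_contra hne
  push Not at hne
  have h0 : f ⁻¹ᵁ U = ⊥ := TopologicalSpace.Opens.ext (Set.eq_empty_of_forall_notMem hne)
  haveI : Nonempty U := hU.to_subtype
  haveI : Subsingleton Γ(X, f ⁻¹ᵁ U) := by
    rw [h0]; exact CommRingCat.subsingleton_of_isTerminal X.sheaf.isTerminalOfEmpty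
  haveI : IsIso (f.app U) := by
    change IsIso (f.c.app (op U)); infer_instance
  haveI : Subsingleton Γ(Y, U) := (ConcreteCategory.bijective_of_isIso (f.app U)).1.subsingleton
  obtain ⟨y, hy⟩ := hU
  exact not_subsingleton (Y.presheaf.stalk y) ((subsingleton_iff_zero_eq_one).1
    ((map_zero (Y.presheaf.germ U y hy).hom).symm.trans ((congrArg _ (Subsingleton.elim _ _)).trans
      (map_one (Y.presheaf.germ U y hy).hom))))

theorem irreducibleSpace_of_isIso_c [IsIntegral X] (hf : IsIso f.c) : IrreducibleSpace Y := by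
  haveI : Nonempty Y := (inferInstance : Nonempty X).map f
  haveI : PreirreducibleSpace Y := ⟨fun O₁ O₂ h₁ h₂ ⟨y₁, _, m₁⟩ ⟨y₂, _, m₂⟩ => by
    obtain ⟨x₁, hx₁⟩ := exists_mem_of_isIso_c f hf ⟨O₁, h₁⟩ ⟨y₁, m₁⟩
    obtain ⟨x₂, hx₂⟩ := exists_mem_of_isIso_c f hf ⟨O₂, h₂⟩ ⟨y₂, m₂⟩
    obtain ⟨x, hx⟩ := nonempty_preirreducible_inter (f ⁻¹ᵁ ⟨O₁, h₁⟩).2 (f ⁻¹ᵁ ⟨O₂, h₂⟩).2 ⟨_, hx₁⟩ ⟨_, hx₂⟩
    exact ⟨f x, trivial, hx⟩⟩
  exact ⟨inferInstance⟩

theorem exists_mem_spec {L : X.Modules} (hL : PicF.IsInvertible L) (hLq : Coh.IsQCoh L)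
    {A : RelSpec.QCAlg X} {j : L ⟶ A.toModule} (hA : RelSpec.IsSymAlg L A j) (O : X.Opens) (hO : (O : Set X).Nonempty) :
    ∃ v, A.π v ∈ O := by
  obtain ⟨x, hx⟩ := hO
  obtain ⟨U, hU, hxU, hUO, ⟨e⟩⟩ := exists_chart_equiv hL hLq hA x O hx
  haveI : Nonempty U := ⟨⟨x, hxU⟩⟩
  haveI : Nontrivial Γ(A.spec, A.π ⁻¹ᵁ U) := e.toEquiv.nontrivial
  obtain ⟨v, hv⟩ := nonempty_of_nontrivial (hU.preimage A.π)
  exact ⟨v, hUO hv⟩

end Groth.Agent.EGA2Cone
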