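import Groth.Agent.EGA2Cone.Uniq
import Groth.Agent.EGA2Cone.Integral

/-!
# A proper birational surjection from an integral scheme onto a normal scheme has `O = q_* O`
-/

set_option autoImplicit false
set_option backward.isDefEq.respectTransparency false
set_option backward.isDefEq.respectTransparency.types false
set_option linter.style.haveILetI false

universe u

open AlgebraicGeometry CategoryTheory TopologicalSpace Opposite

noncomputable section

namespace Groth.Agent.EGA2Cone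

open Groth.Agent

theorem bijective_app_of_normal_proper {V C : Scheme.{u}} [IsIntegral V] (q : V ⟶ C) [IsProper q]
    (hs : Function.Surjective q.base) (hC : Pi1.IsNormalScheme C) (W0 : V.Opens) (hW0 : (W0 : Set V).Nonempty)
    (ho : IsOpenImmersion (W0.ι ≫ q)) (U : C.Opens) : Function.Bijective (q.app U).hom := by
  haveI : Nonempty C := (inferInstance : Nonempty V).map q
  haveI : PreirreducibleSpace C := ⟨fun O₁ O₂ h₁ h₂ ⟨y₁, _, m₁⟩ ⟨y₂, _, m₂⟩ => by
    obtain ⟨x₁, rfl⟩ := hs y₁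
    obtain ⟨x₂, rfl⟩ := hs y₂
    obtain ⟨x, hx⟩ := nonempty_preirreducible_inter (q ⁻¹ᵁ ⟨O₁, h₁⟩).2 (q ⁻¹ᵁ ⟨O₂, h₂⟩).2 ⟨_, m₁⟩ ⟨_, m₂⟩
    exact ⟨q x, trivial, hx⟩⟩
  haveI : IrreducibleSpace C := ⟨inferInstance⟩
  haveI : ∀ c, _root_.IsReduced (C.presheaf.stalk c) := fun c => by haveI := (hC c).1; infer_instance
  haveI : IsReduced C := isReduced_of_isReduced_stalk C
  haveI : IsIntegral C := isIntegral_of_irreducibleSpace_of_isReduced C
  let η := genericPoint V
  have hη : η ∈ W0 := ((genericPoint_spec V).mem_open_set_iff W0.2).2 (by simpa using hW0)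
  haveI hiso : IsIso (q.stalkMap η) := by
    haveI := ho
    haveI h1 : IsIso ((W0.ι ≫ q).stalkMap ⟨η, hη⟩) := inferInstance
    rw [Scheme.Hom.stalkMap_comp] at h1
    haveI : IsIso (Scheme.Hom.stalkMap q η ≫ Scheme.Hom.stalkMap W0.ι ⟨η, hη⟩) := h1
    exact IsIso.of_isIso_comp_right _ (W0.ι.stalkMap ⟨η, hη⟩)
  have hb : Function.Bijective (q.stalkMap η).hom := ConcreteCategory.bijective_of_isIso _
  suffices IsIso (q.app U) from ConcreteCategory.bijective_of_isIso (q.app U)
  refine SteinGen.isIso_app_of_affine_cover q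
    (fun W : {W : C.affineOpens // (W.1 : Set C).Nonempty} => W.1.1) (fun W => W.1.2) (fun c => ?_) (fun W => ?_) U
  · obtain ⟨_, ⟨W, hW, rfl⟩, hcW, -⟩ := C.isBasis_affineOpens.exists_subset_of_mem_open
      (show c ∈ (⊤ : C.Opens) from trivial) isOpen_univ
    exact ⟨⟨⟨W, hW⟩, c, hcW⟩, hcW⟩
  · obtain ⟨⟨W, hW⟩, hWne⟩ := W
    haveI : Nonempty W := hWne.to_subtype
    obtain ⟨c, hc⟩ := hWne
    obtain ⟨v, rfl⟩ := hs c
    have hηW : η ∈ q ⁻¹ᵁ W := ((genericPoint_spec V).mem_open_set_iff (q ⁻¹ᵁ W).2).2 ⟨v, trivial, hc⟩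
    haveI : IsIntegrallyClosed Γ(C, W) := NormSect.isIntegrallyClosed_sections W fun z _ => (hC z).2
    have hψ : ∀ a : Γ(C, W), V.presheaf.germ (q ⁻¹ᵁ W) η hηW (q.app W a) =
        q.stalkMap η (C.presheaf.germ W (q η) hηW a) := fun a =>
      (Scheme.Hom.germ_stalkMap_apply q W η hηW a).symm
    refine SteinGen.bijective_of_integral_embedding (q.app W).hom (SteinGen.isIntegral_app q hW)
      (V.presheaf.germ (q ⁻¹ᵁ W) η hηW).hom (germ_injective_of_isIntegral V η hηW) (K := V.functionField) (fun k => ?_)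
      (fun a b e => ?_)
    · obtain ⟨z, rfl⟩ := hb.2 k
      letI := C.presheaf.algebra_section_stalk (⟨q η, hηW⟩ : W)
      haveI := hW.isLocalization_stalk ⟨q η, hηW⟩
      obtain ⟨⟨a, b⟩, hab⟩ := IsLocalization.surj (hW.primeIdealOf ⟨q η, hηW⟩).asIdeal.primeCompl z
      refine ⟨a, b, ?_, ?_⟩
      · intro h0
        refine (IsLocalization.map_units (C.presheaf.stalk (q η)) b).ne_zero (hb.1 ?_)
        exact ((hψ b).symm.trans h0).trans (map_zero _).symm
      · refine (congrArg _ (hψ b)).trans ((map_mul (q.stalkMap η).hom _ _).symm.trans ?_)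
        exact (congrArg _ hab).trans (hψ a).symm
    · exact germ_injective_of_isIntegral C (q η) hηW (hb.1 ((hψ a).symm.trans (e.trans (hψ b))))

end Groth.Agent.EGA2Cone
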