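import Groth.Agent.EGA2Cone.Forward
import Mathlib.AlgebraicGeometry.Morphisms.Integral
import Mathlib.AlgebraicGeometry.Morphisms.Proper

/-!
# The contraction of the zero section over a proper morphism
-/

set_option autoImplicit false
set_option backward.isDefEq.respectTransparency false
set_option linter.style.haveILetI false

universe u

open CategoryTheory CategoryTheory.Limits AlgebraicGeometry TopologicalSpace Opposite
open Groth.Agent.QC (res resO res_res res_self res_smul resO_resO resO_self)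

noncomputable section

namespace Groth.Agent.EGA2Cone

open Groth.Agent
open TMul (IsGen pw)

variable {X : Scheme.{u}} {L : X.Modules} {𝒮 : RelProj.QCGrAlg X}
  (hL : PicF.IsInvertible L) (hLq : Coh.IsQCoh L) {j : L ⟶ 𝒮.toModule} (hj : RelProj.IsGrSymAlg L 𝒮 j)

include hL hLq hj in
lemma locallyOfFiniteType_π : LocallyOfFiniteType 𝒮.toQCAlg.π := by
  refine IsZariskiLocalAtTarget.of_iSup_eq_top
    (fun i : {q : Σ V : X.affineOpens, Γ(L, V.1) // IsGen q.2} => i.1.1.1) ?_ ?_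
  · rw [eq_top_iff]
    intro x _
    obtain ⟨V, hV, e, hxV, -, he⟩ := Groth.Agent.SymAlg.exists_triv hL (O := ⊤) (x := x) trivial
    exact Opens.mem_iSup.2 ⟨⟨⟨⟨V, hV⟩, e⟩, he⟩, hxV⟩
  rintro ⟨⟨⟨V, hV⟩, e⟩, he⟩
  haveI : IsAffine (V : Scheme.{u}) := hV
  haveI : IsAffine ((𝒮.toQCAlg.π ⁻¹ᵁ V : 𝒮.toQCAlg.spec.Opens) : Scheme.{u}) := hV.preimage _
  rw [HasRingHomProperty.iff_of_isAffine (P := @LocallyOfFiniteType), morphismRestrict_appTop]
  have h : ∀ V' : X.Opens, V' = V → (𝒮.toQCAlg.π.app V').hom.FiniteType := by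
    rintro V' rfl
    have h1 : ((Φ j V' e).comp Polynomial.C).FiniteType :=
      RingHom.FiniteType.comp (RingHom.FiniteType.of_surjective _ (Φ_bijective j hLq hj hV he).2)
        (RingHom.finiteType_algebraMap.2 (inferInstance : Algebra.FiniteType Γ(X, V') (Polynomial Γ(X, V'))))
    convert h1
    ext c
    exact (Φ_C j V' e c).symm
  have h2 : (V.ι ''ᵁ ⊤) = V := by simp
  refine RingHom.FiniteType.comp (RingHom.FiniteType.of_surjective _ ?_) (h _ h2)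
  exact (ConcreteCategory.bijective_of_isIso _).2

variable {aug : 𝒮.toQCAlg ⟶ RelSpec.QCAlg.unit X} {j0 : X ⟶ 𝒮.toQCAlg.spec}
  (hj0 : RelCone.IsVertex 𝒮 aug j0) (haug : RelCone.IsAugmentation 𝒮 aug) {Y : Scheme.{u}} (p : X ⟶ Y)
  [IsProper p]

include hL hLq hj haug in
/-- the line bundle is integral over the product of the base and the contraction -/
theorem isIntegralHom_lift (hamp : RelAmple.IsRelAmple p L)
    (V0 : 𝒮.toQCAlg.spec.Opens) (hV0 : (V0 : Set 𝒮.toQCAlg.spec) = (Set.range j0.base)ᶜ)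
    {q : 𝒮.toQCAlg.spec ⟶ (contrAlg p (𝒮.toQCAlg.π ≫ p) j0 (j0_comp hj0 p)).spec}
    (hq : q ≫ (contrAlg p (𝒮.toQCAlg.π ≫ p) j0 (j0_comp hj0 p)).π = 𝒮.toQCAlg.π ≫ p)
    (hqC : ∀ (U : Y.Opens) (b : contrSub p (𝒮.toQCAlg.π ≫ p) j0 (j0_comp hj0 p) U),
      (q.appLE ((contrAlg p (𝒮.toQCAlg.π ≫ p) j0 (j0_comp hj0 p)).π ⁻¹ᵁ U) ((𝒮.toQCAlg.π ≫ p) ⁻¹ᵁ U)
        (by rw [← Scheme.Hom.comp_preimage, hq])).hom (toC p _ j0 (j0_comp hj0 p) U b) = b.1.1) :
    IsIntegralHom (pullback.lift 𝒮.toQCAlg.π q hq.symm) := by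
  let h := 𝒮.toQCAlg.π ≫ p
  let hj' := j0_comp hj0 p
  let g := (contrAlg p h j0 hj').π
  let φ : 𝒮.toQCAlg.spec ⟶ pullback p g := pullback.lift 𝒮.toQCAlg.π q hq.symm
  let ι := {V : X.affineOpens // ∃ (e : Γ(L, V.1)) (U : Y.Opens) (_ : IsAffineOpen U)
    (a : Γ(𝒮.toQCAlg.spec, 𝒮.toQCAlg.π ⁻¹ᵁ (p ⁻¹ᵁ U))) (O : X.Opens),
    IsGen e ∧ V.1 ≤ O ∧ IsCut j V0 (p ⁻¹ᵁ U) a O ∧ rj p h j0 hj' U a = 0}
  refine IsZariskiLocalAtTarget.of_iSup_eq_top (fun i : ι => pullback.fst p g ⁻¹ᵁ i.1.1) ?_ ?_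
  · rw [← Scheme.Hom.preimage_iSup, eq_top_iff]
    intro z _
    show (pullback.fst p g).base z ∈ (⨆ i : ι, i.1.1)
    obtain ⟨U, hU, hxU, -⟩ := exists_isAffineOpen_mem_and_subset
      (x := p ((pullback.fst p g).base z)) (U := (⊤ : Y.Opens)) trivial
    obtain ⟨a, O, hxO, hcut, hrj⟩ := exists_isCut hj0 p hL hLq hj haug hamp V0 hV0 hU hxU
    obtain ⟨V, hV, e, hxV, hVO, he⟩ := Groth.Agent.SymAlg.exists_triv hL hxO
    exact Opens.mem_iSup.2 ⟨⟨⟨V, hV⟩, e, U, hU, a, O, he, hVO, hcut, hrj⟩, hxV⟩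
  rintro ⟨⟨V, hV⟩, e, U, hU, a, O, he, hVO, hcut, hrj⟩
  let W := pullback.fst p g ⁻¹ᵁ V
  haveI : IsAffineHom g := inferInstanceAs (IsAffineHom (contrAlg p h j0 hj').π)
  haveI : IsAffineHom (pullback.fst p g) := MorphismProperty.pullback_fst p g inferInstance
  have hW : IsAffineOpen W := hV.preimage _
  have hpre : φ ⁻¹ᵁ W = 𝒮.toQCAlg.π ⁻¹ᵁ V := by rw [← Scheme.Hom.comp_preimage, pullback.lift_fst]
  let θ := (φ.appLE W (𝒮.toQCAlg.π ⁻¹ᵁ V) hpre.ge).hom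
  have hθC : ∀ c : Γ(X, V), θ (((pullback.fst p g).app V).hom c) = Φ j V e (Polynomial.C c) := fun c => by
    rw [Φ_C]
    change ((pullback.fst p g).app V ≫ φ.appLE W (𝒮.toQCAlg.π ⁻¹ᵁ V) hpre.ge).hom c = _
    rw [← Scheme.Hom.appLE_eq_app, Scheme.Hom.appLE_comp_appLE]
    simp only [φ, pullback.lift_fst, Scheme.Hom.appLE_eq_app]
  have hVU : V ≤ p ⁻¹ᵁ U := hVO.trans hcut.le
  have hWU : W ≤ pullback.snd p g ⁻¹ᵁ (g ⁻¹ᵁ U) := by
    rw [← Scheme.Hom.comp_preimage, ← pullback.condition, Scheme.Hom.comp_preimage]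
    exact Scheme.Hom.preimage_mono _ hVU
  let b := liftVan p h j0 hj' hrj
  have hθb : θ (((pullback.snd p g).appLE (g ⁻¹ᵁ U) W hWU).hom (toC p h j0 hj' U b)) =
      resO _ (𝒮.toQCAlg.π.preimage_mono hVU) a := by
    change ((pullback.snd p g).appLE (g ⁻¹ᵁ U) W hWU ≫ φ.appLE W (𝒮.toQCAlg.π ⁻¹ᵁ V) hpre.ge).hom _ = _
    rw [Scheme.Hom.appLE_comp_appLE]
    simp only [φ, pullback.lift_snd]
    conv_rhs => rw [show a = b.1.1 from rfl, ← hqC U b]
    change _ = (q.appLE _ _ _ ≫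
      𝒮.toQCAlg.spec.presheaf.map (homOfLE (𝒮.toQCAlg.π.preimage_mono hVU)).op).hom _
    rw [Scheme.Hom.appLE_map]
  obtain ⟨n, c, hc, hca⟩ := hcut.local_eq V hV hVU e he
  have hcu : IsUnit c := by
    have h1 := (fun E (hE : E = V) (e' : E ≤ V) (hu : IsUnit (resO X e' c)) => by
      subst hE; rwa [resO_self] at hu : ∀ E, E = V → ∀ e', IsUnit (resO X e' c) → IsUnit c)
    exact h1 (X.basicOpen c) (hc.trans (inf_eq_right.2 hVO)) (X.basicOpen_le c) (RingedSpace.isUnit_res_basicOpen _ c)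
  obtain ⟨c', hc'⟩ := hcu.exists_left_inv
  have hint : θ.IsIntegral := by
    have hX : θ.IsIntegralElem (Φ j V e Polynomial.X) := by
      suffices hp : θ.IsIntegralElem (Φ j V e Polynomial.X ^ (n + 1)) by
        letI := θ.toAlgebra
        exact IsIntegral.of_pow n.succ_pos hp
      have hpw : (Φ j V e Polynomial.X) ^ (n + 1) =
          θ (((pullback.fst p g).app V).hom c' *
            ((pullback.snd p g).appLE (g ⁻¹ᵁ U) W hWU).hom (toC p h j0 hj' U b)) := by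
        rw [map_mul θ, hθC, hθb, hca, ← map_mul, ← mul_assoc, ← Polynomial.C_mul, hc', map_one, one_mul, map_pow]
      rw [hpw]
      exact RingHom.isIntegralElem_map θ
    intro y
    obtain ⟨P, rfl⟩ := (Φ_bijective j hLq hj hV he).2 y
    induction P using Polynomial.induction_on with
    | C c => rw [← hθC]; exact RingHom.isIntegralElem_map θ
    | add P Q hP hQ => rw [map_add]; exact RingHom.IsIntegralElem.add θ hP hQ
    | monomial n c hP => rw [pow_succ, ← mul_assoc, map_mul]; exact RingHom.IsIntegralElem.mul θ hP hX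
  have key : ∀ W' : (pullback p g).Opens, W' = W → (φ.app W').hom.IsIntegral := by
    rintro _ rfl
    rw [← Scheme.Hom.appLE_eq_app φ]
    exact (fun E (hE : E = 𝒮.toQCAlg.π ⁻¹ᵁ V) (e' : E ≤ φ ⁻¹ᵁ W) => by
      subst hE; exact hint : ∀ E, E = 𝒮.toQCAlg.π ⁻¹ᵁ V → ∀ e', RingHom.IsIntegral (φ.appLE W E e').hom) _ hpre le_rfl
  haveI : IsAffine (W : Scheme.{u}) := hW
  refine (HasAffineProperty.iff_of_isAffine (P := @IsIntegralHom)).2 ⟨?_, ?_⟩
  · exact (hpre ▸ hV.preimage _ : IsAffineOpen (φ ⁻¹ᵁ W))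
  · change ((φ ∣_ W).app ⊤).hom.IsIntegral
    rw [morphismRestrict_app, CommRingCat.hom_comp]
    have h1 : (φ.app (W.ι ''ᵁ ⊤)).hom.IsIntegral := key _ (by simp)
    exact RingHom.IsIntegral.trans _ _ h1
      (RingHom.isIntegral_of_surjective _ (ConcreteCategory.bijective_of_isIso _).2)

section

variable {h : 𝒮.toQCAlg.spec ⟶ Y} {hj' : j0 ≫ h = p} [QuasiCompact h] [QuasiSeparated h]

lemma toC_str (U : Y.Opens) (c : Γ(Y, U)) :
    toC p h j0 hj' U ⟨((h.app U).hom c, c), rj_app p h j0 hj' U c⟩ = ((contrAlg p h j0 hj').π.app U).hom c := by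
  have e : (contrAlg p h j0 hj').str ≫ inv (contrAlg p h j0 hj').gammaMap = (contrAlg p h j0 hj').π.c := by
    rw [IsIso.comp_inv_eq]; exact (contrAlg p h j0 hj').π_c_gammaMap.symm
  exact congr($(NatTrans.congr_app e (op U)) c)

end

lemma mem_basicOpen_add_iff {T : Scheme.{u}} {W : T.Opens} {d s : Γ(T, W)} {z : T} (hd : z ∉ T.basicOpen d) :
    z ∈ T.basicOpen (d + s) ↔ z ∈ T.basicOpen s := by
  refine ⟨fun hz => (T.basicOpen_add_le d s hz).resolve_left hd, fun hz => ?_⟩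
  have h1 : z ∈ T.basicOpen ((d + s) + (-1) * d) := by
    rwa [show (d + s) + (-1) * d = s by ring]
  refine (T.basicOpen_add_le _ _ h1).resolve_right fun h2 => hd ?_
  rw [Scheme.basicOpen_mul] at h2
  exact h2.2

include hL hLq hj haug hj0 in
/-- **the proper contraction of the zero section of a relatively ample module** -/
theorem exists_proper_contraction_of_isRelAmple (hamp : RelAmple.IsRelAmple p L)
    (V0 : 𝒮.toQCAlg.spec.Opens) (hV0 : (V0 : Set 𝒮.toQCAlg.spec) = (Set.range j0.base)ᶜ) :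
    ∃ (C : Scheme.{u}) (g : C ⟶ Y) (ε : Y ⟶ C) (q : 𝒮.toQCAlg.spec ⟶ C),
      ε ≫ g = 𝟙 Y ∧ q ≫ g = 𝒮.toQCAlg.π ≫ p ∧ j0 ≫ q = p ≫ ε ∧ IsProper q ∧
        IsOpenImmersion (V0.ι ≫ q) ∧ QuasiCompact (V0.ι ≫ q) ∧
          Set.range (V0.ι ≫ q).base = (Set.range ε.base)ᶜ := by
  let h := 𝒮.toQCAlg.π ≫ p
  let hj' := j0_comp hj0 p
  obtain ⟨q, ε, hq, hε, hjq, hoi, hqc, hdis, hqC, hεC⟩ :=
    exists_contraction_of_isRelAmple hj0 p hL hLq hj haug hamp V0 hV0
  let g := (contrAlg p h j0 hj').π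
  haveI := locallyOfFiniteType_π hL hLq hj
  haveI : IsIntegralHom (pullback.lift 𝒮.toQCAlg.π q hq.symm) :=
    isIntegralHom_lift hL hLq hj hj0 haug p hamp V0 hV0 hq hqC
  haveI hsep : IsSeparated q := by
    haveI : IsSeparated (q ≫ g) := by rw [hq]; infer_instance
    exact IsSeparated.of_comp q g
  haveI hlft : LocallyOfFiniteType q := by
    haveI : LocallyOfFiniteType (q ≫ g) := by rw [hq]; infer_instance
    exact locallyOfFiniteType_of_comp q g
  haveI huc : UniversallyClosed q := by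
    rw [← pullback.lift_snd 𝒮.toQCAlg.π q hq.symm]
    infer_instance
  refine ⟨_, g, ε, q, hε, hq, hjq, ⟨⟩, hoi, hqc, Set.Subset.antisymm ?_ ?_⟩
  · exact fun z hz hz' => (Set.eq_empty_iff_forall_notMem.1 hdis z) ⟨hz, hz'⟩
  intro z hz
  let C := (contrAlg p h j0 hj').spec
  obtain ⟨U, hU, hzU, -⟩ := exists_isAffineOpen_mem_and_subset (x := g.base z) (U := (⊤ : Y.Opens)) trivial
  have hgU : IsAffineOpen (g ⁻¹ᵁ U) := hU.preimage _
  have hzg : z ∈ g ⁻¹ᵁ U := hzU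
  by_cases hcase : ∃ (a : Γ(𝒮.toQCAlg.spec, h ⁻¹ᵁ U)) (ha : rj p h j0 hj' U a = 0),
      z ∈ C.basicOpen (toC p h j0 hj' U (liftVan p h j0 hj' ha))
  · obtain ⟨a, ha, hza⟩ := hcase
    by_cases hzr : z ∈ Set.range q.base
    · obtain ⟨v, rfl⟩ := hzr
      have hv : v ∈ 𝒮.toQCAlg.spec.basicOpen a := by
        have h1 : v ∈ q ⁻¹ᵁ C.basicOpen (toC p h j0 hj' U (liftVan p h j0 hj' ha)) := hza
        rwa [preimage_basicOpen_toC p h j0 hj' hq hqC] at h1
      have hvV0 : v ∈ V0 := by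
        rw [← SetLike.mem_coe, hV0]
        rintro ⟨y, rfl⟩
        exact not_mem_basicOpen_of_rj p ha y hv
      exact ⟨⟨v, hvV0⟩, rfl⟩
    · exfalso
      let O' : C.Opens := ⟨(Set.range q.base)ᶜ, q.isClosedMap.isClosed_range.isOpen_compl⟩
      obtain ⟨f, hfO, hzf⟩ := hgU.exists_basicOpen_le (V := O') ⟨z, hzr⟩ hzg
      obtain ⟨b, rfl⟩ := (toC_bijective p h j0 hj' U).2 f
      have hbot : 𝒮.toQCAlg.spec.basicOpen (a * b.1.1) = ⊥ := by
        rw [eq_bot_iff, Scheme.basicOpen_mul, ← preimage_basicOpen_toC p h j0 hj' hq hqC b]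
        exact fun v hv => (hfO hv.2 ⟨v, rfl⟩).elim
      have hnil := ((Scheme.isNilpotent_iff_basicOpen_eq_bot_of_isCompact
        (h.isCompact_preimage hU.isCompact)) _).2 hbot
      obtain ⟨N, hN⟩ := hnil
      have h2 : (liftVan p h j0 hj' ha * b) ^ (N + 1) = 0 := by
        refine Subtype.ext (Prod.ext ?_ ?_)
        · change (a * b.1.1) ^ (N + 1) = 0
          rw [pow_succ, hN, zero_mul]
        · change ((0 : Γ(Y, U)) * b.1.2) ^ (N + 1) = 0
          rw [zero_mul, zero_pow N.succ_ne_zero]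
      have h3 : z ∈ C.basicOpen (toC p h j0 hj' U ((liftVan p h j0 hj' ha * b) ^ (N + 1))) := by
        rw [map_pow, map_mul, Scheme.basicOpen_pow _ _ N.succ_pos, Scheme.basicOpen_mul]
        exact ⟨hza, hzf⟩
      rw [h2, map_zero, Scheme.basicOpen_zero] at h3
      exact h3
  exfalso
  push Not at hcase
  refine hz ⟨g.base z, ?_⟩
  have hyU : ε.base (g.base z) ∈ g ⁻¹ᵁ U := by
    show g.base (ε.base (g.base z)) ∈ U
    rw [π_ε p hε]
    exact hzU
  have hiff : ∀ B : Γ(C, g ⁻¹ᵁ U), z ∈ C.basicOpen B ↔ ε.base (g.base z) ∈ C.basicOpen B := by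
    intro B
    obtain ⟨b, rfl⟩ := (toC_bijective p h j0 hj' U).2 B
    rw [mem_basicOpen_ε_iff p hε hεC]
    let st : contrSub p h j0 hj' U := ⟨((h.app U).hom b.1.2, b.1.2), rj_app p h j0 hj' U _⟩
    let d : contrSub p h j0 hj' U := b - st
    have hd : rj p h j0 hj' U d.1.1 = 0 := by
      change rj p h j0 hj' U (b.1.1 - (h.app U).hom b.1.2) = 0
      rw [map_sub, rj_app, (mem_contrSub_iff p h j0 hj').1 b.2, sub_self]
    have hd' : d = liftVan p h j0 hj' hd := Subtype.ext (Prod.ext rfl (sub_self b.1.2))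
    have hb : toC p h j0 hj' U b = toC p h j0 hj' U d + toC p h j0 hj' U st := by
      rw [← map_add, sub_add_cancel]
    rw [hb, mem_basicOpen_add_iff (by rw [hd']; exact hcase _ hd), toC_str, ← Scheme.preimage_basicOpen]
    rfl
  refine (Inseparable.eq (inseparable_iff_forall_isOpen.2 fun O hO => ⟨fun h1 => ?_, fun h1 => ?_⟩))
  · obtain ⟨f, hf, hyf⟩ := hgU.exists_basicOpen_le (V := ⟨O, hO⟩) ⟨_, h1⟩ hyU
    exact hf ((hiff f).2 hyf)
  · obtain ⟨f, hf, hzf⟩ := hgU.exists_basicOpen_le (V := ⟨O, hO⟩) ⟨_, h1⟩ hzg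
    exact hf ((hiff f).1 hzf)

end Groth.Agent.EGA2Cone
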