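import Groth.Agent.SymAlg.Exists
import Groth.Prelude.Def_RelProj2
import Groth.Prelude.Def_RelSpec2

/-!
# The symmetric algebra of a sum with the structure sheaf is a polynomial algebra
-/

set_option autoImplicit false
set_option backward.isDefEq.respectTransparency false
set_option linter.style.haveILetI false

universe u

open CategoryTheory CategoryTheory.Limits AlgebraicGeometry TopologicalSpace Opposite Polynomial
open AlgebraicGeometry.Scheme.AffineZariskiSite

noncomputable section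

namespace Groth.Agent.EGA2Cone

open Groth.Agent

variable {Y : Scheme.{u}} {𝒮 𝒮h : RelProj.QCGrAlg Y} {ι : 𝒮.toQCAlg ⟶ 𝒮h.toQCAlg}
  {z : 𝒮h.presheaf.obj (op ⊤)} (hz : RelCone.IsPolyOver 𝒮 𝒮h ι z)

/-- Evaluation at a given section. -/
abbrev polyMap {B : RelSpec.QCAlg Y} (ψ₀ : 𝒮.toQCAlg ⟶ B) (b : B.presheaf.obj (op ⊤)) (U : Y.Opens) :
    (𝒮.presheaf.obj (op U))[X] →+* B.presheaf.obj (op U) :=
  Polynomial.eval₂RingHom (ψ₀.hom.app (op U)).hom ((B.presheaf.map (homOfLE le_top).op).hom b)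

/-- The polynomial description over an affine open. -/
def polyIso (U : Y.AffineZariskiSite) : (𝒮.presheaf.obj (op U.1))[X] ≃+* 𝒮h.presheaf.obj (op U.1) :=
  RingEquiv.ofBijective _ (hz.bij U.1 U.2)

lemma polyMap_res {B : RelSpec.QCAlg Y} (ψ₀ : 𝒮.toQCAlg ⟶ B) (b : B.presheaf.obj (op ⊤)) {V U : Y.Opens} (h : V ≤ U)
    (p : (𝒮.presheaf.obj (op U))[X]) :
    (B.presheaf.map (homOfLE h).op).hom (polyMap ψ₀ b U p) =
      polyMap ψ₀ b V (p.map (𝒮.presheaf.map (homOfLE h).op).hom) := by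
  induction p using Polynomial.induction_on' with
  | add p q hp hq => simp only [map_add, Polynomial.map_add, hp, hq]
  | monomial n a =>
    simp only [Polynomial.map_monomial, Polynomial.coe_eval₂RingHom, Polynomial.eval₂_monomial, map_mul, map_pow]
    refine congrArg₂ (· * ·) ?_ (congrArg (· ^ n) ?_)
    · exact congr($(ψ₀.hom.naturality (homOfLE h).op) a).symm
    · rw [← CommRingCat.comp_apply, ← Functor.map_comp]; rfl

include hz in
theorem existsUnique_polyHom {B : RelSpec.QCAlg Y} (ψ₀ : 𝒮.toQCAlg ⟶ B) (b : B.presheaf.obj (op ⊤)) :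
    ∃! ψ : 𝒮h.toQCAlg ⟶ B, ι ≫ ψ = ψ₀ ∧ (ψ.hom.app (op ⊤)).hom z = b := by
  let B' : TopCat.Sheaf CommRingCat.{u} Y.carrier := ⟨B.presheaf, B.isSheaf⟩
  let R := Functor.IsCoverDense.restrictHomEquivHom (G := toOpensFunctor Y)
    (K := Opens.grothendieckTopology Y) (ℱ := 𝒮h.presheaf) (ℱ' := B')
  let T : (toOpensFunctor Y).op ⋙ 𝒮h.presheaf ⟶ (toOpensFunctor Y).op ⋙ B.presheaf :=
    { app := fun U => CommRingCat.ofHom ((polyMap ψ₀ b U.unop.1).comp (polyIso hz U.unop).symm.toRingHom)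
      naturality := fun U V i => by
        let h := toOpens_mono (leOfHom i.unop)
        refine CommRingCat.hom_ext (RingHom.ext fun a => ?_)
        obtain ⟨p, rfl⟩ := (polyIso hz U.unop).surjective a
        change polyMap ψ₀ b _ ((polyIso hz V.unop).symm ((𝒮h.presheaf.map (homOfLE h).op).hom (polyIso hz U.unop p))) =
          (B.presheaf.map (homOfLE h).op).hom (polyMap ψ₀ b _ ((polyIso hz U.unop).symm (polyIso hz U.unop p)))
        rw [RingEquiv.symm_apply_apply, polyMap_res ψ₀ b h p]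
        refine congrArg _ ?_
        rw [RingEquiv.symm_apply_eq]
        exact polyMap_res ι z h p }
  let ψ : 𝒮h.presheaf ⟶ B.presheaf := R T
  have hψ : ∀ (U : Y.AffineZariskiSite) (p : (𝒮.presheaf.obj (op U.1))[X]),
      (ψ.app (op U.1)).hom (polyIso hz U p) = polyMap ψ₀ b U.1 p := fun U p =>
    (congr($(NatTrans.congr_app (R.symm_apply_apply T) (op U)) (polyIso hz U p))).trans
      (congrArg (polyMap ψ₀ b U.1) ((polyIso hz U).symm_apply_apply p))
  have hψι : ∀ (U : Y.AffineZariskiSite) (a : 𝒮.presheaf.obj (op U.1)),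
      (ψ.app (op U.1)).hom ((ι.hom.app (op U.1)).hom a) = (ψ₀.hom.app (op U.1)).hom a := fun U a => by
    have h := hψ U (C a)
    simp only [polyIso, RingEquiv.ofBijective_apply, polyMap, Polynomial.coe_eval₂RingHom, Polynomial.eval₂_C] at h
    exact h
  have hcomm : 𝒮h.str ≫ ψ = B.str := by
    refine (Functor.IsCoverDense.restrictHomEquivHom (G := toOpensFunctor Y)
      (K := Opens.grothendieckTopology Y) (ℱ := Y.presheaf) (ℱ' := B')).symm.injective ?_
    ext U r
    change (ψ.app (op U.unop.1)).hom ((𝒮h.str.app (op U.unop.1)).hom r) = (B.str.app (op U.unop.1)).hom r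
    have h1 : (ι.hom.app (op U.unop.1)).hom ((𝒮.str.app (op U.unop.1)).hom r) = (𝒮h.str.app (op U.unop.1)).hom r :=
      congr($(NatTrans.congr_app ι.comm (op U.unop.1)) r)
    rw [← h1, hψι U.unop]
    exact congr($(NatTrans.congr_app ψ₀.comm (op U.unop.1)) r)
  have haff : ∀ {A : RelSpec.QCAlg Y} (g g' : A.presheaf ⟶ B.presheaf),
      (∀ U : Y.AffineZariskiSite, g.app (op U.1) = g'.app (op U.1)) → g = g' := fun {A} g g' h =>
    (Functor.IsCoverDense.restrictHomEquivHom (G := toOpensFunctor Y) (K := Opens.grothendieckTopology Y)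
      (ℱ := A.presheaf) (ℱ' := B')).symm.injective (NatTrans.ext (funext fun U => h U.unop))
  refine ⟨⟨ψ, hcomm⟩, ⟨RelSpec.QCAlg.Hom.ext (haff (A := 𝒮.toQCAlg) _ _ fun U => CommRingCat.hom_ext (RingHom.ext (hψι U))), ?_⟩, ?_⟩
  · refine SymAlg.eq_of_affine (A := B) fun W hW hWa => ?_
    have h := hψ ⟨W, hWa⟩ Polynomial.X
    simp only [polyIso, RingEquiv.ofBijective_apply, polyMap, Polynomial.coe_eval₂RingHom, Polynomial.eval₂_X] at h
    exact (congr($(ψ.naturality (homOfLE hW).op) z)).symm.trans h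
  · rintro ψ' ⟨hι, htop⟩
    refine RelSpec.QCAlg.Hom.ext (haff (A := 𝒮h.toQCAlg) _ _ fun U => CommRingCat.hom_ext (RingHom.ext fun a => ?_))
    obtain ⟨p, rfl⟩ := (polyIso hz U).surjective a
    refine Eq.trans ?_ (hψ U p).symm
    refine RingHom.congr_fun (f := (ψ'.hom.app (op U.1)).hom.comp (polyIso hz U).toRingHom)
      (g := polyMap ψ₀ b U.1) (Polynomial.ringHom_ext (fun a => ?_) ?_) p
    · simp only [RingHom.comp_apply, RingEquiv.toRingHom_eq_coe, RingEquiv.coe_toRingHom, polyIso,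
        RingEquiv.ofBijective_apply, polyMap, Polynomial.coe_eval₂RingHom, Polynomial.eval₂_C]
      exact congr($(NatTrans.congr_app (congrArg RelSpec.QCAlg.Hom.hom hι) (op U.1)) a)
    · simp only [RingHom.comp_apply, RingEquiv.toRingHom_eq_coe, RingEquiv.coe_toRingHom, polyIso,
        RingEquiv.ofBijective_apply, polyMap, Polynomial.coe_eval₂RingHom, Polynomial.eval₂_X, ← htop]
      exact congr($(ψ'.hom.naturality (homOfLE le_top).op) z)

lemma hom_structureModule_app {M : Y.Modules} (φ : Coh.structureModule Y ⟶ M) (U : Y.Opens) (r : Γ(Y, U)) :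
    φ.app U r = r • φ.app U (1 : Γ(Y, U)) := by
  rw [← Scheme.Modules.Hom.app_smul]
  exact congrArg (φ.app U) (mul_one r).symm

include hz in
theorem isGrSymAlg_biprod {E : Y.Modules} {j : E ⟶ 𝒮.toModule} (hS : RelProj.IsGrSymAlg E 𝒮 j)
    (k : Coh.structureModule Y ⟶ 𝒮h.toModule)
    (hk : ∀ U : Y.Opens, (k.app U) (1 : Γ(Y, U)) = RelCone.restrictTop 𝒮h z U) :
    RelProj.IsGrSymAlg (E ⊞ Coh.structureModule Y) 𝒮h (biprod.desc (j ≫ RelSpec.QCAlg.Hom.toModuleMap ι) k) := by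
  refine ⟨fun B φ => ?_, fun U hU x => ?_⟩
  · obtain ⟨ψ₀, hψ₀, huniq⟩ := hS.1 B (biprod.inl ≫ φ)
    let b : B.presheaf.obj (op ⊤) := (biprod.inr ≫ φ).app ⊤ (1 : Γ(Y, ⊤))
    have hone : ∀ U : Y.Opens, (B.presheaf.map (homOfLE (le_top : U ≤ ⊤)).op).hom b =
        (biprod.inr ≫ φ).app U (1 : Γ(Y, U)) := fun U =>
      (QC.app_res (biprod.inr ≫ φ) le_top (1 : Γ(Y, ⊤))).trans
        (congrArg _ (map_one (QC.resO Y le_top)))
    have hb : ∀ ψ : 𝒮h.toQCAlg ⟶ B, (ψ.hom.app (op ⊤)).hom z = b ↔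
        k ≫ RelSpec.QCAlg.Hom.toModuleMap ψ = biprod.inr ≫ φ := fun ψ => by
      have hk' : ∀ U : Y.Opens, (k ≫ RelSpec.QCAlg.Hom.toModuleMap ψ).app U (1 : Γ(Y, U)) =
          (B.presheaf.map (homOfLE (le_top : U ≤ ⊤)).op).hom ((ψ.hom.app (op ⊤)).hom z) := fun U => by
        change (ψ.hom.app (op U)).hom (k.app U (1 : Γ(Y, U))) = _
        rw [hk]
        exact congr($(ψ.hom.naturality (homOfLE (le_top : U ≤ ⊤)).op) z)
      refine ⟨fun h => ?_, fun h => ?_⟩
      · apply Scheme.Modules.hom_ext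
        intro U
        refine AddCommGrpCat.hom_ext (AddMonoidHom.ext fun r => ?_)
        change (k ≫ RelSpec.QCAlg.Hom.toModuleMap ψ).app U r = (biprod.inr ≫ φ).app U r
        rw [hom_structureModule_app, hom_structureModule_app (biprod.inr ≫ φ), hk', h, hone]
      · have h1 := hk' ⊤
        rw [h, ← hone ⊤] at h1
        simpa using h1.symm
    obtain ⟨ψ, ⟨h1, h2⟩, hu⟩ := existsUnique_polyHom hz ψ₀ b
    refine ⟨ψ, ?_, fun ψ' h' => hu ψ' ⟨huniq _ ?_, ?_⟩⟩
    · refine biprod.hom_ext' _ _ ?_ ?_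
      · rw [biprod.inl_desc_assoc, Category.assoc, ← SymAlg.toModuleMap_comp, h1, hψ₀]
      · rw [biprod.inr_desc_assoc]
        exact (hb ψ).1 h2
    · change j ≫ RelSpec.QCAlg.Hom.toModuleMap (ι ≫ ψ') = _
      rw [SymAlg.toModuleMap_comp, ← h', biprod.inl_desc_assoc, Category.assoc]
    · refine (hb ψ').2 ?_
      rw [← h', biprod.inr_desc_assoc]
  · have hx : x = (biprod.inl : E ⟶ E ⊞ Coh.structureModule Y).app U ((biprod.fst : E ⊞ Coh.structureModule Y ⟶ E).app U x) +
        (biprod.inr : Coh.structureModule Y ⟶ E ⊞ Coh.structureModule Y).app U ((biprod.snd : E ⊞ Coh.structureModule Y ⟶ Coh.structureModule Y).app U x) := by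
      conv_lhs => rw [show x = (𝟙 (E ⊞ Coh.structureModule Y) : _ ⟶ _).app U x from rfl, ← biprod.total]
      rfl
    rw [hx, map_add]
    refine AddSubgroup.add_mem _ ?_ ?_
    · change (biprod.inl ≫ biprod.desc (j ≫ RelSpec.QCAlg.Hom.toModuleMap ι) k).app U _ ∈ _
      rw [biprod.inl_desc]
      exact hz.graded U hU 1 _ (hS.2 U hU _)
    · change (biprod.inr ≫ biprod.desc (j ≫ RelSpec.QCAlg.Hom.toModuleMap ι) k).app U _ ∈ _
      rw [biprod.inr_desc, hom_structureModule_app, hk]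
      have := SetLike.mul_mem_graded (A := 𝒮h.deg U hU) (𝒮h.str_mem U hU ((biprod.snd : E ⊞ Coh.structureModule Y ⟶ Coh.structureModule Y).app U x)) (hz.deg_z U hU)
      rw [zero_add] at this
      exact this

end Groth.Agent.EGA2Cone
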