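import Groth.Agent.EGA2Cone.DirIm
import Groth.Agent.GrpdSplit.FieldPts
import Groth.Agent.SteinGen.NormalBase

/-!
# The universal property of the contraction
-/

set_option autoImplicit false
set_option linter.style.haveILetI false
set_option linter.unusedSectionVars false
set_option backward.isDefEq.respectTransparency false
set_option backward.isDefEq.respectTransparency.types false

universe u

open CategoryTheory CategoryTheory.Limits AlgebraicGeometry TopologicalSpace Opposite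

noncomputable section

namespace Groth.Agent.EGA2Cone

open Groth.Agent

variable {X Y V : Scheme.{u}} {p : X ⟶ Y} {j0 : X ⟶ V} {V0 : V.Opens}
  (hV0 : (V0 : Set V) = (Set.range j0.base)ᶜ) (hps : Function.Surjective p.base)
  {C : Scheme.{u}} {ε : Y ⟶ C} {q : V ⟶ C} (hjq : j0 ≫ q = p ≫ ε)

/-- a point of `V` over the section lies on the zero section, and conversely -/
structure Contracts (V0 : V.Opens) (j0 : X ⟶ V) (ε : Y ⟶ C) (q : V ⟶ C) : Prop where
  mem : ∀ v, v ∈ V0 → q v ∉ Set.range ε.base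
  inj : ∀ v w, v ∈ V0 → w ∈ V0 → q v = q w → v = w

lemma contracts_of [IsOpenImmersion (V0.ι ≫ q)] (hr : Set.range (V0.ι ≫ q).base = (Set.range ε.base)ᶜ) :
    Contracts V0 j0 ε q := by
  refine ⟨fun v hv => hr.le ⟨⟨v, hv⟩, rfl⟩, fun v w hv hw e => ?_⟩
  exact congrArg Subtype.val ((V0.ι ≫ q).isOpenEmbedding.injective (a₁ := ⟨v, hv⟩) (a₂ := ⟨w, hw⟩) e)

include hV0 in
lemma exists_of_notMem {v : V} (hv : v ∉ V0) : ∃ x, j0 x = v := by
  rw [← SetLike.mem_coe, hV0] at hv
  exact not_not.1 hv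

include hV0 hjq in
lemma notMem_iff (hc : Contracts V0 j0 ε q) (v : V) : v ∉ V0 ↔ q v ∈ Set.range ε.base := by
  refine ⟨fun hv => ?_, fun h hv => hc.mem v hv h⟩
  obtain ⟨x, rfl⟩ := exists_of_notMem hV0 hv
  exact ⟨p x, (congr($hjq x)).symm⟩

include hV0 hjq in
/-- two contractions have the same fibres -/
lemma fibre_eq {C' : Scheme.{u}} {ε' : Y ⟶ C'} {q' : V ⟶ C'} (hc' : Contracts V0 j0 ε' q')
    (hjq' : j0 ≫ q' = p ≫ ε') (hε' : Function.Injective ε'.base) {a b : V} (e : q' a = q' b) : q a = q b := by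
  by_cases ha : a ∈ V0
  · have hb : b ∈ V0 := by
      by_contra hb
      exact hc'.mem a ha (e ▸ (notMem_iff hV0 hjq' hc' b).1 hb)
    rw [hc'.inj a b ha hb e]
  · have hb : b ∉ V0 := by
      intro hb
      exact hc'.mem b hb (e ▸ (notMem_iff hV0 hjq' hc' a).1 ha)
    obtain ⟨x, rfl⟩ := exists_of_notMem hV0 ha
    obtain ⟨y, rfl⟩ := exists_of_notMem hV0 hb
    rw [← Scheme.Hom.comp_apply, ← Scheme.Hom.comp_apply, hjq'] at e
    rw [← Scheme.Hom.comp_apply, ← Scheme.Hom.comp_apply, hjq, Scheme.Hom.comp_apply, Scheme.Hom.comp_apply]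
    rw [Scheme.Hom.comp_apply, Scheme.Hom.comp_apply] at e
    exact congrArg ε (hε' e)

lemma isIso_residueFieldMap_of_section {C' : Scheme.{u}} {g : C' ⟶ Y} {ε' : Y ⟶ C'} (h : ε' ≫ g = 𝟙 Y) (y : Y) :
    IsIso (ε'.residueFieldMap y) := by
  refine (ConcreteCategory.isIso_iff_bijective _).mpr ⟨(ε'.residueFieldMap y).hom.injective, fun t => ?_⟩
  have key : ∀ (ψ : Y ⟶ Y) (_ : ψ = 𝟙 Y), Function.Surjective (ψ.residueFieldMap y).hom := by
    rintro _ rfl t; exact ⟨t, by simp⟩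
  obtain ⟨s, hs⟩ := key _ h t
  rw [Scheme.residueFieldMap_comp] at hs
  exact ⟨_, hs⟩

lemma injective_of_section {C' : Scheme.{u}} {g : C' ⟶ Y} {ε' : Y ⟶ C'} (h : ε' ≫ g = 𝟙 Y) :
    Function.Injective ε'.base := fun a b e => by
  have := congrArg g e
  rwa [← Scheme.Hom.comp_apply, ← Scheme.Hom.comp_apply, h] at this

variable {C' : Scheme.{u}} {g' : C' ⟶ Y} {ε' : Y ⟶ C'} (hε' : ε' ≫ g' = 𝟙 Y) {q' : V ⟶ C'}
  (hjq' : j0 ≫ q' = p ≫ ε') (hq's : Function.Surjective q'.base) (hq'cl : IsClosedMap q'.base)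
  (hq'b : ∀ U, Function.Bijective (q'.app U).hom)

include hV0 hjq hε' hjq' hq's hq'cl hq'b in
theorem existsUnique_desc_contraction (hc' : Contracts V0 j0 ε' q') {g : C ⟶ Y} (hqg : q ≫ g = q' ≫ g') :
    ∃! u : C' ⟶ C, u ≫ g = g' ∧ q' ≫ u = q := by
  obtain ⟨u, hu, huniq⟩ := existsUnique_factor q' hq's hq'cl hq'b q
    (fun a b e => fibre_eq hV0 hjq hc' hjq' (injective_of_section hε') e)
  refine ⟨u, ⟨?_, hu⟩, fun u' hu' => huniq u' hu'.2⟩
  exact hom_ext_of_app_injective q' hq's (fun U => (hq'b U).1) (by rw [reassoc_of% hu, hqg])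

include hV0 hps hjq in
theorem surjective_of_contracts (hr : Set.range (V0.ι ≫ q).base = (Set.range ε.base)ᶜ) :
    Function.Surjective q.base := by
  intro c
  by_cases hc : c ∈ Set.range ε.base
  · obtain ⟨y, rfl⟩ := hc
    obtain ⟨x, rfl⟩ := hps y
    exact ⟨j0 x, congr($hjq x)⟩
  · obtain ⟨v, hv⟩ := hr.ge hc
    exact ⟨V0.ι v, hv⟩

include hV0 hps hjq hε' hjq' hq's hq'b in
/-- **the comparison morphism is a universal homeomorphism, an isomorphism off the section** -/
theorem props_desc [IsOpenImmersion (V0.ι ≫ q)] (hr : Set.range (V0.ι ≫ q).base = (Set.range ε.base)ᶜ)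
    [IsOpenImmersion (V0.ι ≫ q')] (hr' : Set.range (V0.ι ≫ q').base = (Set.range ε'.base)ᶜ)
    [IsProper q] {g : C ⟶ Y} (hε : ε ≫ g = 𝟙 Y) (hpi : ∀ U : Y.Opens, Function.Injective (p.app U).hom) (u : C' ⟶ C) (hug : u ≫ g = g') (hu : q' ≫ u = q) :
    UniversallyClosed u ∧ Function.Surjective u.base ∧ UniversallyInjective u ∧
      ∀ W : C'.Opens, (W : Set C') = (q'.base '' Set.range j0.base)ᶜ →
        IsOpenImmersion (W.ι ≫ u) ∧ Set.range (W.ι ≫ u).base = (Set.range ε.base)ᶜ := by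
  haveI : Surjective q' := ⟨hq's⟩
  haveI : UniversallyClosed (q' ≫ u) := by rw [hu]; infer_instance
  have hus : Function.Surjective u.base := fun c => by
    obtain ⟨v, hv⟩ := surjective_of_contracts hV0 hps hjq hr c
    exact ⟨q' v, by rw [← Scheme.Hom.comp_apply, hu, hv]⟩
  have hεu : ε' ≫ u = ε :=
    hom_ext_of_app_injective p hps hpi (by rw [← reassoc_of% hjq', hu, hjq])
  have hW : ∀ W : C'.Opens, (W : Set C') = (q'.base '' Set.range j0.base)ᶜ →
      IsOpenImmersion (W.ι ≫ u) ∧ Set.range (W.ι ≫ u).base = (Set.range ε.base)ᶜ := by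
    intro W hW
    have himg : q'.base '' Set.range j0.base = Set.range ε'.base := by
      ext c
      constructor
      · rintro ⟨_, ⟨x, rfl⟩, rfl⟩
        exact ⟨p x, (congr($hjq' x)).symm⟩
      · rintro ⟨y, rfl⟩
        obtain ⟨x, rfl⟩ := hps y
        exact ⟨j0 x, ⟨x, rfl⟩, congr($hjq' x)⟩
    rw [himg, ← hr', ← Scheme.Hom.coe_opensRange] at hW
    obtain rfl : W = (V0.ι ≫ q').opensRange := Opens.ext hW
    have e : (V0.ι ≫ q').opensRange.ι ≫ u = (V0.ι ≫ q').isoOpensRange.inv ≫ V0.ι ≫ q := by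
      rw [← hu, ← Category.assoc V0.ι, Scheme.Hom.isoOpensRange_inv_comp_assoc]
    rw [e]
    refine ⟨inferInstance, ?_⟩
    rw [Scheme.Hom.comp_base, TopCat.coe_comp, Set.range_comp,
      Set.range_eq_univ.2 (V0.ι ≫ q').isoOpensRange.inv.surjective, Set.image_univ, hr]
  refine ⟨UniversallyClosed.of_comp_surjective (f := q') (g := u), hus, ?_, hW⟩
  refine GrpdSplit.universallyInjective_of_field_points u fun K _ a b hab => ?_
  let pt := IsLocalRing.closedPoint K
  have hK : ∀ t : Spec (CommRingCat.of K), t = pt := fun t => Subsingleton.elim _ _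
  have hmem : ∀ c : C', c ∈ Set.range ε'.base ↔ u c ∈ Set.range ε.base := fun c => by
    constructor
    · rintro ⟨y, rfl⟩
      exact ⟨y, (congr($hεu y)).symm⟩
    · intro hc
      obtain ⟨v, rfl⟩ := hq's c
      rw [← Scheme.Hom.comp_apply, hu] at hc
      exact (notMem_iff hV0 hjq' (contracts_of hr') v).1 ((notMem_iff hV0 hjq (contracts_of hr) v).2 hc)
  have hsame : u (a pt) = u (b pt) := congr($hab pt)
  by_cases ha : a pt ∈ Set.range ε'.base
  · have hb : b pt ∈ Set.range ε'.base := (hmem _).2 (hsame ▸ (hmem _).1 ha)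
    have lift : ∀ c : Spec (CommRingCat.of K) ⟶ C', c pt ∈ Set.range ε'.base → c = c ≫ g' ≫ ε' := by
      intro c hc
      obtain ⟨y, hy⟩ := hc
      haveI : IsSplitMono ε' := ⟨⟨⟨g', hε'⟩⟩⟩
      haveI : IsIso (ε'.residueFieldMap y) := isIso_residueFieldMap_of_section hε' y
      obtain ⟨d, hd, -⟩ := GrpdSplit.exists_lift_of_iso_residueField ε' y c hy.symm
      rw [← hd, Category.assoc, reassoc_of% hε']
    rw [lift a ha, lift b hb, ← hug]
    simp only [Category.assoc, reassoc_of% hab]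
  · have hb : b pt ∉ Set.range ε'.base := fun hb => ha ((hmem _).2 (hsame ▸ (hmem _).1 hb))
    let W : C'.Opens := (V0.ι ≫ q').opensRange
    have hWe : (W : Set C') = (Set.range ε'.base)ᶜ := by rw [Scheme.Hom.coe_opensRange, hr']
    have hi : ∀ c : Spec (CommRingCat.of K) ⟶ C', c pt ∉ Set.range ε'.base → Set.range c.base ⊆ Set.range W.ι.base := by
      intro c hc
      rw [Scheme.Opens.range_ι, hWe]
      rintro _ ⟨t, rfl⟩
      rw [hK t]; exact hc
    have himg : (W : Set C') = (q'.base '' Set.range j0.base)ᶜ := by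
      rw [hWe]
      congr 1
      ext c
      constructor
      · rintro ⟨y, rfl⟩
        obtain ⟨x, rfl⟩ := hps y
        exact ⟨j0 x, ⟨x, rfl⟩, congr($hjq' x)⟩
      · rintro ⟨_, ⟨x, rfl⟩, rfl⟩
        exact ⟨p x, (congr($hjq' x)).symm⟩
    haveI := (hW W himg).1
    rw [← IsOpenImmersion.lift_fac W.ι a (hi a ha), ← IsOpenImmersion.lift_fac W.ι b (hi b hb)] at hab ⊢
    rw [Category.assoc, Category.assoc] at hab
    rw [(cancel_mono (W.ι ≫ u)).1 hab]

end Groth.Agent.EGA2Cone
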